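/-
The character computation behind "no group has exactly 22 Sylow 3-subgroups" (M. Hall).

A group with a self-centralizing element `x` of order 11 inverted by an involution `t`, with
`N(⟨x⟩) = ⟨x, t⟩`, a transitive character of degree 22 vanishing on `⟨x⟩ \ {1}` and no nontrivial
linear character has order divisible by 5.

Main result: `Cfsg.Agent.HallSylow.five_dvd_card`.
-/
import Mathlib
import Cfsg.Prelude.Def_Characters
import Cfsg.Agent.Lib.Char.Induced
import Cfsg.Agent.Lib.Char.Virtual
import Cfsg.Agent.Lib.Char.ClassMult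
import Cfsg.Agent.S0944

set_option autoImplicit false

namespace Cfsg.Agent.HallSylow

open Cfsg Cfsg.Agent.Char
open scoped ComplexConjugate

/-- The standard character of `ZMod 11`. -/
noncomputable abbrev om : AddChar (ZMod 11) ℂ := ZMod.stdAddChar

theorem sum_om (b : ZMod 11) : ∑ j : ZMod 11, om (b * j) = if b = 0 then 11 else 0 := by
  have h := AddChar.sum_mulShift b (ZMod.isPrimitive_stdAddChar 11)
  rw [ZMod.card] at h
  simp only [mul_comm b]
  exact_mod_cast h

theorem conj_om (a : ZMod 11) : conj (om a) = om (-a) :=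
  (AddChar.map_neg_eq_conj (ψ := om) a).symm

theorem sum_om_shift (b : ZMod 11) (j : ZMod 11) :
    ∑ i : ZMod 11, om (i * j) * om (-(i * b)) = if j = b then 11 else 0 := by
  have h : ∀ i : ZMod 11, om (i * j) * om (-(i * b)) = om ((j - b) * i) := fun i => by
    rw [← AddChar.map_add_eq_mul]; congr 1; ring
  rw [Finset.sum_congr rfl fun i _ => h i, sum_om]
  exact if_congr sub_eq_zero rfl rfl

/-- The data: `e` parametrizes `⟨x⟩`. -/
structure Data (G : Type*) [Group G] where
  X : Subgroup G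
  e : ZMod 11 ≃ X
  e_add : ∀ a b, e (a + b) = e a * e b
  t : G
  t_sq : t * t = 1
  t_not : t ∉ X
  t_inv : ∀ a, t * (e a : G) * t = e (-a)
  norm : ∀ g : G, ∀ a : ZMod 11, a ≠ 0 → g⁻¹ * (e a : G) * g ∈ X → g ∈ X ∨ t * g ∈ X

theorem eq_zero_of_add_self : ∀ a : ZMod 11, a + a = 0 → a = 0 := by decide

variable {G : Type*} [Group G] [Fintype G] (D : Data G)

set_option linter.unusedSectionVars false

omit [Fintype G] in
theorem e_zero : (D.e 0 : G) = 1 := by
  have h := D.e_add 0 0
  rw [add_zero, left_eq_mul] at h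
  rw [h]; rfl

omit [Fintype G] in
theorem e_mul (a b : ZMod 11) : (D.e a : G) * (D.e b : G) = D.e (a + b) := by
  rw [D.e_add]; rfl

omit [Fintype G] in
theorem e_inv (a : ZMod 11) : ((D.e a : G))⁻¹ = D.e (-a) := by
  refine (eq_inv_of_mul_eq_one_left ?_).symm
  rw [e_mul, neg_add_cancel, e_zero]

theorem card_X : Nat.card D.X = 11 := by
  rw [← Nat.card_congr D.e]; simp

/-- `λ_i` as a homomorphism. -/
noncomputable def lam (i : ZMod 11) : D.X →* ℂ where
  toFun u := om (i * D.e.symm u)
  map_one' := by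
    have : D.e.symm 1 = 0 := by
      rw [Equiv.symm_apply_eq]; exact Subtype.ext (by rw [e_zero]; rfl)
    rw [this, mul_zero, AddChar.map_zero_eq_one]
  map_mul' u v := by
    have : D.e.symm (u * v) = D.e.symm u + D.e.symm v := by
      rw [Equiv.symm_apply_eq, D.e_add, Equiv.apply_symm_apply, Equiv.apply_symm_apply]
    rw [this, mul_add, AddChar.map_add_eq_mul]

/-- The induced generalized character `θ_i`. -/
noncomputable def theta (i : ZMod 11) : G → ℂ :=
  indFun D.X (fun u => 1 - lam D i u)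

theorem theta_gen (i : ZMod 11) : IsGeneralizedCharacter G (theta D i) := by
  classical
  refine IsGeneralizedCharacter.indFun ?_
  exact ⟨fun _ => 1, lam D i, IsIrrCharacter.isCharacter isIrrCharacter_one, isCharacter_of_hom _, rfl⟩

theorem theta_class (i : ZMod 11) : IsClassFunction G (theta D i) := indFun_isClassFunction _ _

theorem theta_apply_e (i j : ZMod 11) :
    theta D i (D.e j : G) = 2 - om (i * j) - om (-(i * j)) := by
  classical
  by_cases hj : j = 0
  · subst hj
    rw [e_zero, theta, indFun_one_apply, mul_zero, neg_zero, AddChar.map_zero_eq_one, map_one]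
    ring
  let S₁ : Finset G := Finset.univ.image fun a : ZMod 11 => (D.e a : G)
  let S₂ : Finset G := Finset.univ.image fun a : ZMod 11 => D.t * (D.e a : G)
  have hd : Disjoint S₁ S₂ := by
    rw [Finset.disjoint_left]
    intro g h1 h2
    obtain ⟨a, -, rfl⟩ := Finset.mem_image.1 h1
    obtain ⟨b, -, hb⟩ := Finset.mem_image.1 h2
    refine D.t_not ?_
    have : D.t = (D.e a : G) * (D.e b : G)⁻¹ := by rw [← hb]; group
    rw [this]
    exact D.X.mul_mem (D.e a).2 (D.X.inv_mem (D.e b).2)
  have hext : ∀ a : ZMod 11, extendByZero D.X (fun u => 1 - lam D i u) (D.e a : G) =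
      1 - om (i * a) := fun a => by
    rw [extendByZero_coe]; simp [lam]
  have h0 : ∑ g : G, extendByZero D.X (fun u => 1 - lam D i u) (g⁻¹ * (D.e j : G) * g) =
      ∑ g ∈ S₁ ∪ S₂, extendByZero D.X (fun u => 1 - lam D i u) (g⁻¹ * (D.e j : G) * g) := by
    symm
    refine Finset.sum_subset (Finset.subset_univ _) fun g _ hg => extendByZero_not_mem _ _ fun hm => hg ?_
    rcases D.norm g j hj hm with h | h
    · refine Finset.mem_union_left _ (Finset.mem_image.2 ⟨D.e.symm ⟨g, h⟩, Finset.mem_univ _, ?_⟩)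
      simp
    · refine Finset.mem_union_right _ (Finset.mem_image.2 ⟨D.e.symm ⟨_, h⟩, Finset.mem_univ _, ?_⟩)
      simp [← mul_assoc, D.t_sq]
  have h1 : ∀ a : ZMod 11, (D.e a : G)⁻¹ * (D.e j : G) * (D.e a : G) = D.e j := fun a => by
    rw [e_inv, e_mul, e_mul]; congr 2; ring
  have h2 : ∀ a : ZMod 11, (D.t * (D.e a : G))⁻¹ * (D.e j : G) * (D.t * (D.e a : G)) = D.e (-j) := by
    intro a
    have ht : D.t⁻¹ = D.t := inv_eq_of_mul_eq_one_left D.t_sq
    calc (D.t * (D.e a : G))⁻¹ * (D.e j : G) * (D.t * (D.e a : G))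
        = (D.e a : G)⁻¹ * (D.t * (D.e j : G) * D.t) * (D.e a : G) := by
          rw [mul_inv_rev, ht]; group
      _ = _ := by rw [D.t_inv, e_inv, e_mul, e_mul]; congr 2; ring
  unfold theta indFun
  rw [h0, Finset.sum_union hd, Finset.sum_image, Finset.sum_image, card_X]
  · simp only [h1, h2, hext, Finset.sum_const, Finset.card_univ, ZMod.card, nsmul_eq_mul, mul_neg]
    push_cast; ring
  · intro a _ b _ h
    exact D.e.injective (Subtype.ext (mul_left_cancel h))
  · intro a _ b _ h
    exact D.e.injective (Subtype.ext h)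

theorem theta_t (i : ZMod 11) : theta D i D.t = 0 := by
  classical
  unfold theta indFun
  rw [Finset.sum_eq_zero, mul_zero]
  intro g _
  refine extendByZero_not_mem _ _ fun hm => ?_
  have hsq : (g⁻¹ * D.t * g) * (g⁻¹ * D.t * g) = 1 := by
    calc (g⁻¹ * D.t * g) * (g⁻¹ * D.t * g) = g⁻¹ * (D.t * D.t) * g := by group
      _ = 1 := by rw [D.t_sq, mul_one, inv_mul_cancel]
  obtain ⟨a, ha⟩ : ∃ a, (D.e a : G) = g⁻¹ * D.t * g := ⟨D.e.symm ⟨_, hm⟩, by simp⟩
  rw [← ha, e_mul, ← e_zero D] at hsq
  have h2 : a + a = 0 := D.e.injective (Subtype.ext hsq)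
  have ha0 : a = 0 := eq_zero_of_add_self a h2
  rw [ha0, e_zero] at ha
  apply D.t_not
  have : D.t = 1 := by
    calc D.t = g * (g⁻¹ * D.t * g) * g⁻¹ := by group
      _ = 1 := by rw [← ha]; group
  rw [this]; exact D.X.one_mem

/-- Inner products on `X` as sums over `ZMod 11`. -/
theorem inner_theta (i : ZMod 11) {χ : G → ℂ} (hχ : IsClassFunction G χ) :
    classInner (theta D i) χ =
      (11 : ℂ)⁻¹ * ∑ j : ZMod 11, (1 - om (i * j)) * conj (χ (D.e j : G)) := by
  classical
  rw [theta, frobenius_reciprocity _ _ hχ, classInner, card_X]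
  congr 1
  refine (Fintype.sum_equiv D.e _ _ fun j => ?_).symm
  simp [lam]

theorem theta_inner (i k : ZMod 11) :
    classInner (theta D i) (theta D k) =
      (if i = 0 then 0 else if k = 0 then 0 else
        2 + (if i + k = 0 then 1 else 0) + (if i = k then 1 else 0) : ℂ) := by
  rw [inner_theta D i (theta_class D k)]
  have hsimp : ∀ j : ZMod 11, (1 - om (i * j)) * conj (theta D k (D.e j : G)) =
      2 * om (0 * j) - om (k * j) - om ((-k) * j) - 2 * om (i * j) + om ((i + k) * j) +
        om ((i - k) * j) := by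
    intro j
    rw [theta_apply_e, map_sub, map_sub, conj_om, conj_om, neg_neg, map_ofNat, zero_mul,
      AddChar.map_zero_eq_one, neg_mul, add_mul, sub_mul i k j, sub_eq_add_neg (i * j) (k * j),
      AddChar.map_add_eq_mul, AddChar.map_add_eq_mul]
    ring
  simp only [hsimp, Finset.sum_add_distrib, Finset.sum_sub_distrib, ← Finset.mul_sum, sum_om]
  by_cases hi : i = 0
  · subst hi
    by_cases hk : k = 0 <;> simp [hk, neg_eq_zero] <;> norm_num
  by_cases hk : k = 0
  · subst hk; simp [hi]; norm_num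
  simp only [hi, hk, neg_eq_zero, if_false, if_true, sub_eq_zero]
  split_ifs <;> norm_num

/-- Values on `X` from the coefficients `⟨θ_i, χ⟩`. -/
theorem value_eq {χ : G → ℂ} (hχ : IsClassFunction G χ) (k : ZMod 11) :
    conj (χ (D.e k : G)) =
      (if k = 0 then ∑ j : ZMod 11, conj (χ (D.e j : G)) else 0) -
        ∑ i : ZMod 11, classInner (theta D i) χ * om (-(i * k)) := by
  have e1 : ∀ i : ZMod 11, classInner (theta D i) χ * om (-(i * k)) =
      (11 : ℂ)⁻¹ * ((∑ j : ZMod 11, conj (χ (D.e j : G))) * om (-(i * k)) -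
        ∑ j : ZMod 11, conj (χ (D.e j : G)) * (om (i * j) * om (-(i * k)))) := by
    intro i
    rw [inner_theta D i hχ, mul_assoc]
    congr 1
    rw [Finset.sum_mul, Finset.sum_mul, ← Finset.sum_sub_distrib]
    exact Finset.sum_congr rfl fun j _ => by ring
  rw [Finset.sum_congr rfl fun i _ => e1 i, ← Finset.mul_sum, Finset.sum_sub_distrib, ← Finset.mul_sum,
    Finset.sum_comm]
  have e2 : ∀ j : ZMod 11, ∑ i : ZMod 11, conj (χ (D.e j : G)) * (om (i * j) * om (-(i * k))) =
      if j = k then 11 * conj (χ (D.e j : G)) else 0 := by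
    intro j
    rw [← Finset.mul_sum, sum_om_shift]
    split_ifs <;> ring
  have e3 : ∑ i : ZMod 11, om (-(i * k)) = if k = 0 then 11 else 0 := by
    have e : ∀ i : ZMod 11, om (-(i * k)) = om ((-k) * i) := fun i => by congr 1; ring
    rw [Finset.sum_congr rfl fun i _ => e i, sum_om]
    exact if_congr neg_eq_zero rfl rfl
  rw [Finset.sum_congr rfl fun j _ => e2 j, Finset.sum_ite_eq', if_pos (Finset.mem_univ _), e3]
  split_ifs <;> ring

theorem pairs_card (htn : D.t ≠ 1) :
    Nat.card {p : G × G // IsConj D.t p.1 ∧ IsConj D.t p.2 ∧ p.1 * p.2 = (D.e 1 : G)} = 11 := by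
  have hconj : ∀ a, IsConj D.t (D.t * (D.e a : G)) := by
    intro a
    refine isConj_iff.2 ⟨(D.e (5 * a) : G), ?_⟩
    have e1 : (D.e (5 * a) : G) * D.t = D.t * D.e (-(5 * a)) := by
      rw [← D.t_inv, ← mul_assoc, ← mul_assoc, D.t_sq, one_mul]
    rw [e1, e_inv, mul_assoc, e_mul]
    congr 3
    calc -(5 * a) + -(5 * a) = (-10 : ZMod 11) * a := by ring
      _ = a := by rw [show (-10 : ZMod 11) = 1 by decide, one_mul]
  have hmul : ∀ a, D.t * (D.e a : G) * (D.t * (D.e (a + 1) : G)) = D.e 1 := by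
    intro a
    rw [← mul_assoc, D.t_inv, e_mul]
    congr 2; ring
  have hsq : ∀ u, IsConj D.t u → u * u = 1 := by
    intro u hu
    obtain ⟨c, rfl⟩ := isConj_iff.1 hu
    calc c * D.t * c⁻¹ * (c * D.t * c⁻¹) = c * (D.t * D.t) * c⁻¹ := by group
      _ = 1 := by rw [D.t_sq, mul_one, mul_inv_cancel]
  let f : ZMod 11 → {p : G × G // IsConj D.t p.1 ∧ IsConj D.t p.2 ∧ p.1 * p.2 = (D.e 1 : G)} :=
    fun a => ⟨(D.t * (D.e a : G), D.t * (D.e (a + 1) : G)), hconj _, hconj _, hmul a⟩
  have hf : Function.Bijective f := by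
    refine ⟨fun a b h => D.e.injective (Subtype.ext (mul_left_cancel
      (congrArg (fun p => p.1.1) h))), ?_⟩
    rintro ⟨⟨u, v⟩, hu, hv, huv⟩
    have hu2 := hsq u hu
    have hv2 := hsq v hv
    simp only at huv hu hv
    have hm : u⁻¹ * (D.e 1 : G) * u ∈ D.X := by
      have : u⁻¹ * (D.e 1 : G) * u = (D.e 1 : G)⁻¹ := by
        rw [← huv, mul_inv_rev, inv_eq_of_mul_eq_one_left hu2, inv_eq_of_mul_eq_one_left hv2,
          ← mul_assoc, hu2, one_mul]
      rw [this]; exact D.X.inv_mem (D.e 1).2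
    rcases D.norm u 1 (by decide) hm with h | h
    · exfalso
      obtain ⟨a, ha⟩ : ∃ a, (D.e a : G) = u := ⟨D.e.symm ⟨u, h⟩, by simp⟩
      rw [← ha, e_mul, ← e_zero D] at hu2
      have h2 : a + a = 0 := D.e.injective (Subtype.ext hu2)
      have ha0 : a = 0 := eq_zero_of_add_self a h2
      rw [ha0, e_zero] at ha
      rw [← ha] at hu
      exact htn (isConj_one_left.1 hu)
    · obtain ⟨a, ha⟩ : ∃ a, (D.e a : G) = D.t * u := ⟨D.e.symm ⟨_, h⟩, by simp⟩
      have hua : D.t * (D.e a : G) = u := by rw [ha, ← mul_assoc, D.t_sq, one_mul]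
      refine ⟨a, Subtype.ext (Prod.ext hua ?_)⟩
      show D.t * (D.e (a + 1) : G) = v
      refine mul_left_cancel (a := u) ?_
      conv_lhs => rw [← hua]
      rw [hmul, huv]
  rw [← Nat.card_congr (Equiv.ofBijective f hf)]
  simp

/-- The arithmetical end. -/
theorem five_dvd_of_eq (g k d : ℕ) (a : ℤ) (hd : d = 10 ∨ d = 21)
    (h : (11 : ℤ) * d * (d - 1) * g = (k : ℤ) ^ 2 * (a - d) ^ 2) : 5 ∣ g := by
  have h5 : Prime (5 : ℤ) := by norm_num
  have key : (5 : ℤ) ∣ (k : ℤ) * (a - d) := by
    refine h5.dvd_of_dvd_pow (n := 2) ?_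
    rw [mul_pow, ← h]
    rcases hd with rfl | rfl
    · exact ⟨11 * 2 * 9 * g, by push_cast; ring⟩
    · exact ⟨11 * 21 * 4 * g, by push_cast; ring⟩
  obtain ⟨c, hc⟩ := key
  rw [← mul_pow, hc, mul_pow] at h
  generalize c ^ 2 = z at h
  have : (5 : ℤ) ∣ (g : ℤ) := by
    rcases hd with rfl | rfl <;> push_cast at h <;> omega
  exact_mod_cast this

theorem five_dvd_card
    (π : G → ℂ) (hπ : IsCharacter G π) (hπ1 : classInner π (1 : G → ℂ) = 1) (hπd : π 1 = 22)
    (hπx : ∀ a : ZMod 11, a ≠ 0 → π (D.e a : G) = 0)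
    (hlin : ∀ χ : G → ℂ, IsIrrCharacter G χ → χ 1 = 1 → χ = 1) :
    5 ∣ Nat.card G := by
  classical
  have := Fintype.ofFinite (IrrCharacter G)
  let one : IrrCharacter G := ⟨1, isIrrCharacter_one⟩
  have htn : D.t ≠ 1 := fun h => D.t_not (h ▸ D.X.one_mem)
  choose c hcsum hc hcn using fun i => IsGeneralizedCharacter.exists_coeffs (theta_gen D i)
  choose dg hdgpos hdg using fun χ : IrrCharacter G => IsIrrCharacter.exists_degree χ.2
  have hdg1 : ∀ χ, 1 ≤ dg χ := fun χ => Nat.one_le_iff_ne_zero.2 fun h =>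
    IsIrrCharacter.apply_one_ne_zero χ.2 (by rw [hdg, h, Nat.cast_zero])
  have hcl : ∀ χ : IrrCharacter G, IsClassFunction G (χ : G → ℂ) := fun χ =>
    IsIrrCharacter.isClassFunction χ.2
  -- coefficient of the principal character
  have hc0 : ∀ χ, c 0 χ = 0 := by
    intro χ
    have h := hc 0 χ
    rw [inner_theta D 0 (hcl χ)] at h
    simp at h
    exact_mod_cast h.symm
  have hc1 : ∀ i, i ≠ 0 → c i one = 1 := by
    intro i hi
    have h := hc i one
    rw [inner_theta D i (hcl one)] at h
    simp only [one, Pi.one_apply, map_one, mul_one, Finset.sum_sub_distrib, Finset.sum_const,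
      Finset.card_univ, ZMod.card, nsmul_eq_mul, sum_om, hi, if_false, sub_zero] at h
    norm_num at h
    exact_mod_cast h.symm
  have hinner : ∀ i k, ((∑ χ, c i χ * c k χ : ℤ) : ℂ) = classInner (theta D i) (theta D k) := by
    intro i k
    rw [classInner_eq_sum (theta_class D i)]
    push_cast
    exact Finset.sum_congr rfl fun χ _ => by rw [hc, hc, map_intCast]
  have hdeg0 : ∀ i, ∑ χ, c i χ * (dg χ : ℤ) = 0 := by
    intro i
    have h := congrFun (hcsum i) 1
    have h1 : theta D i 1 = 0 := by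
      rw [← e_zero D, theta_apply_e, mul_zero, neg_zero, AddChar.map_zero_eq_one]; ring
    rw [h1, Finset.sum_apply] at h
    simp only [Pi.smul_apply, smul_eq_mul, hdg] at h
    exact_mod_cast h.symm
  obtain ⟨mm, hmsum, hm⟩ := IsCharacter.decompose hπ
  have hm1 : mm one = 1 := by
    have h := hm one
    rw [show (one : G → ℂ) = 1 from rfl, hπ1] at h
    exact_mod_cast h.symm
  have hπi : ∀ i, ∑ χ, c i χ * (mm χ : ℤ) = 0 := by
    intro i
    have h : classInner (theta D i) π = 0 := by
      rw [inner_theta D i (IsCharacter.isClassFunction hπ),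
        Finset.sum_eq_single (0 : ZMod 11)]
      · simp
      · intro j _ hj; rw [hπx j hj]; simp
      · simp
    rw [classInner_eq_sum (theta_class D i)] at h
    simp only [hc, hm, map_natCast] at h
    exact_mod_cast h
  have hπdeg : ∑ χ, mm χ * dg χ = 22 := by
    have h := congrFun hmsum 1
    rw [hπd, Finset.sum_apply] at h
    simp only [Pi.smul_apply, smul_eq_mul, hdg] at h
    exact_mod_cast h.symm
  -- the two non-principal constituents
  have hAB : ∀ i, i ≠ 0 → ∃ A B : IrrCharacter G, A ≠ B ∧ A ≠ one ∧ B ≠ one ∧ c i A = -1 ∧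
      c i B = 1 ∧ (∀ χ, χ ≠ one → χ ≠ A → χ ≠ B → c i χ = 0) ∧
      dg A = dg B + 1 ∧ mm A = mm B + 1 := by
    intro i hi
    let S := (Finset.univ.erase one).filter fun χ => c i χ ≠ 0
    have hS : ∑ χ ∈ S, c i χ ^ 2 = 2 := by
      have h := hcn i
      rw [theta_inner, if_neg hi, if_neg hi, if_pos rfl] at h
      have hni : i + i ≠ 0 := fun h => hi (eq_zero_of_add_self i h)
      rw [if_neg hni] at h
      have h3 : ∑ χ, c i χ ^ 2 = 3 := by
        have : ((3 : ℤ) : ℂ) = ((∑ χ, c i χ ^ 2 : ℤ) : ℂ) := by rw [← h]; norm_num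
        exact_mod_cast this.symm
      rw [← Finset.add_sum_erase _ _ (Finset.mem_univ one), hc1 i hi] at h3
      have h4 : ∑ χ ∈ S, c i χ ^ 2 = ∑ χ ∈ Finset.univ.erase one, c i χ ^ 2 :=
        Finset.sum_filter_of_ne (fun χ _ h h0 => h (by rw [h0]; norm_num))
      rw [h4]
      linarith
    have hsq : ∀ χ ∈ S, c i χ ^ 2 = 1 := by
      intro χ hχ
      have h1 := Finset.single_le_sum (f := fun χ => c i χ ^ 2) (fun χ _ => sq_nonneg _) hχ
      rw [hS] at h1
      have h2 := (Finset.mem_filter.1 hχ).2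
      have h3 : -2 < c i χ ∧ c i χ < 2 := ⟨by nlinarith, by nlinarith⟩
      have h4 : c i χ = 1 ∨ c i χ = -1 := by omega
      rcases h4 with h4 | h4 <;> rw [h4] <;> norm_num
    have hcard : S.card = 2 := by
      rw [Finset.sum_congr rfl hsq, Finset.sum_const, nsmul_one] at hS
      exact_mod_cast hS
    obtain ⟨A, B, hne, hSeq⟩ := Finset.card_eq_two.1 hcard
    have hA1 : c i A = 1 ∨ c i A = -1 := sq_eq_one_iff.1 (hsq A (by simp [hSeq]))
    have hB1 : c i B = 1 ∨ c i B = -1 := sq_eq_one_iff.1 (hsq B (by simp [hSeq]))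
    have hAo : A ≠ one := (Finset.mem_erase.1 (Finset.mem_filter.1 (hSeq ▸ (by simp) : A ∈ S)).1).1
    have hBo : B ≠ one := (Finset.mem_erase.1 (Finset.mem_filter.1 (hSeq ▸ (by simp) : B ∈ S)).1).1
    have hz : ∀ χ, χ ≠ one → χ ≠ A → χ ≠ B → c i χ = 0 := by
      intro χ h1 h2 h3
      by_contra h
      have : χ ∈ S := Finset.mem_filter.2 ⟨Finset.mem_erase.2 ⟨h1, Finset.mem_univ _⟩, h⟩
      rw [hSeq] at this
      simp [h2, h3] at this
    have hsum3 : ∀ f : IrrCharacter G → ℤ, ∑ χ, c i χ * f χ = f one + c i A * f A + c i B * f B := by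
      intro f
      rw [← Finset.add_sum_erase _ _ (Finset.mem_univ one), hc1 i hi, one_mul, add_assoc]
      congr 1
      rw [← Finset.sum_subset (s₁ := {A, B}) (by
          intro χ hχ
          rcases Finset.mem_insert.1 hχ with rfl | h
          · simp [hAo]
          · rw [Finset.mem_singleton] at h; subst h; simp [hBo])
        (fun χ hχ h => by
          simp only [Finset.mem_insert, Finset.mem_singleton, not_or] at h
          rw [hz χ (Finset.mem_erase.1 hχ).1 h.1 h.2, zero_mul]), Finset.sum_pair hne]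
    have hd := hdeg0 i
    rw [hsum3] at hd
    have hdo : dg one = 1 := by
      have h := hdg one
      rw [show (one : G → ℂ) 1 = 1 from rfl] at h
      exact_mod_cast h.symm
    have hp := hπi i
    rw [hsum3, hm1] at hp
    have := hdg1 A
    have := hdg1 B
    rcases hA1 with hA1 | hA1 <;> rcases hB1 with hB1 | hB1 <;> rw [hA1, hB1] at hd hp <;>
      rw [hdo] at hd
    · omega
    · exact ⟨B, A, hne.symm, hBo, hAo, hB1, hA1, fun χ a b d => hz χ a d b, by omega, by omega⟩
    · exact ⟨A, B, hne, hAo, hBo, hA1, hB1, hz, by omega, by omega⟩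
    · omega
  choose A B hne hAo hBo hcA hcB hcz hdAB hmAB using hAB
  have hval : ∀ i (hi : i ≠ 0) χ, χ ≠ one →
      c i χ = if χ = A i hi then -1 else if χ = B i hi then 1 else 0 := by
    intro i hi χ hχ
    split_ifs with h1 h2
    · rw [h1, hcA]
    · rw [h2, hcB]
    · exact hcz i hi χ hχ h1 h2
  have hpair : ∀ i (hi : i ≠ 0) k (hk : k ≠ 0),
      ((i + k = 0 ∨ i = k) → A i hi = A k hk ∧ B i hi = B k hk) ∧
      ((i + k ≠ 0 ∧ i ≠ k) → (A i hi = A k hk ∨ B i hi = B k hk) ∧
        ¬ (A i hi = A k hk ∧ B i hi = B k hk)) := by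
    intro i hi k hk
    have h := hinner i k
    rw [theta_inner, if_neg hi, if_neg hk] at h
    have hsplit : ∑ χ, c i χ * c k χ = 1 - c k (A i hi) + c k (B i hi) := by
      rw [← Finset.add_sum_erase _ _ (Finset.mem_univ one), hc1 i hi, hc1 k hk, one_mul, sub_add_eq_add_sub,
        add_sub_assoc]
      congr 1
      rw [← Finset.sum_subset (s₁ := {A i hi, B i hi}) (by
          intro χ hχ
          rcases Finset.mem_insert.1 hχ with rfl | h
          · simp [hAo]
          · rw [Finset.mem_singleton] at h; subst h; simp [hBo])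
        (fun χ hχ h => by
          simp only [Finset.mem_insert, Finset.mem_singleton, not_or] at h
          rw [hcz i hi χ (Finset.mem_erase.1 hχ).1 h.1 h.2, zero_mul]),
        Finset.sum_pair (hne i hi), hcA, hcB]
      ring
    rw [hsplit] at h
    have vA := hval k hk (A i hi) (hAo i hi)
    have vB := hval k hk (B i hi) (hBo i hi)
    have hni : i + i ≠ 0 := fun h => hi (eq_zero_of_add_self i h)
    constructor
    · intro hik
      have hr : (1 : ℤ) - c k (A i hi) + c k (B i hi) = 3 := by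
        rcases hik with e | e
        · have hne' : i ≠ k := fun h => hni (by rw [h] at e ⊢; exact e)
          rw [if_pos e, if_neg hne'] at h
          exact_mod_cast h.trans (by norm_num : ((2 : ℂ) + 1 + 0) = ((3 : ℤ) : ℂ))
        · have hne' : i + k ≠ 0 := fun h => hni (by rw [← e] at h; exact h)
          rw [if_neg hne', if_pos e] at h
          exact_mod_cast h.trans (by norm_num : ((2 : ℂ) + 0 + 1) = ((3 : ℤ) : ℂ))
      rw [vA, vB] at hr
      constructor <;> · by_contra hcon; simp only [hcon, if_false] at hr; split_ifs at hr <;> omega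
    · intro hik
      rw [if_neg hik.1, if_neg hik.2] at h
      have hr : (1 : ℤ) - c k (A i hi) + c k (B i hi) = 2 := by
        exact_mod_cast h.trans (by norm_num : ((2 : ℂ) + 0 + 0) = ((2 : ℤ) : ℂ))
      rw [vA, vB] at hr
      constructor
      · by_contra hcon
        rw [not_or] at hcon
        simp only [hcon.1, hcon.2, if_false] at hr
        split_ifs at hr <;> omega
      · rintro ⟨e1, e2⟩
        rw [e1, e2, if_pos rfl, if_neg (fun e => hne k hk e.symm), if_pos rfl] at hr
        omega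
  -- congruence for degrees
  have hcong : ∀ χ : IrrCharacter G, (11 : ℤ) ∣ (dg χ : ℤ) + ∑ i, c i χ := by
    intro χ
    have h := value_eq D (hcl χ) 0
    simp only [e_zero, hdg, map_natCast, mul_zero, neg_zero, AddChar.map_zero_eq_one, mul_one,
      if_true, hc] at h
    obtain ⟨n, hn⟩ := IsCharacter.classInner_nat (IsIrrCharacter.isCharacter (isIrrCharacter_one (G := D.X)))
      (IsCharacter.restrict (IsIrrCharacter.isCharacter χ.2) D.X)
    have hs : ∑ j : ZMod 11, conj ((χ : G → ℂ) (D.e j : G)) = 11 * (n : ℂ) := by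
      rw [← hn, classInner, card_X, ← mul_assoc]
      norm_num
      exact Fintype.sum_equiv D.e _ _ fun j => rfl
    rw [hs] at h
    refine ⟨(n : ℤ), ?_⟩
    have : ((dg χ : ℤ) : ℂ) + ((∑ i, c i χ : ℤ) : ℂ) = ((11 * n : ℤ) : ℂ) := by
      push_cast; rw [h]; ring
    exact_mod_cast this
  have h1 : (1 : ZMod 11) ≠ 0 := by decide
  have huniv : (∀ i hi, A i hi = A 1 h1) ∨ (∀ i hi, B i hi = B 1 h1) := by
    by_contra hcon
    rw [not_or] at hcon
    push Not at hcon
    obtain ⟨⟨j, hj, hjA⟩, ⟨k, hk, hkB⟩⟩ := hcon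
    have hor : ∀ i (hi : i ≠ 0) k (hk : k ≠ 0), A i hi = A k hk ∨ B i hi = B k hk := by
      intro i hi k hk
      by_cases h : i + k = 0 ∨ i = k
      · exact Or.inl ((hpair i hi k hk).1 h).1
      · rw [not_or] at h; exact ((hpair i hi k hk).2 h).1
    have e1 := (hor j hj 1 h1).resolve_left hjA
    have e2 := (hor k hk 1 h1).resolve_right hkB
    rcases hor j hj k hk with e | e
    · exact hjA (e.trans e2)
    · exact hkB (e.symm.trans e1)
  have hmono : ∀ s : Finset (IrrCharacter G), one ∉ s → 1 + ∑ χ ∈ s, mm χ * dg χ ≤ 22 := by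
    intro s hs
    have hdo : dg one = 1 := by
      have h := hdg one
      rw [show (one : G → ℂ) 1 = 1 from rfl] at h
      exact_mod_cast h.symm
    have h := Finset.sum_le_sum_of_subset (f := fun χ => mm χ * dg χ) (Finset.subset_univ (insert one s))
    rw [hπdeg, Finset.sum_insert hs, hm1, hdo] at h
    omega
  have hA : ∀ i hi, A i hi = A 1 h1 := huniv.resolve_right fun hB => by
    have hdeq : ∀ i hi, dg (A i hi) = dg (A 1 h1) := by
      intro i hi; rw [hdAB i hi, hdAB 1 h1, hB i hi]
    have hiff : ∀ i hi k hk, A i hi = A k hk → (i + k = 0 ∨ i = k) := by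
      intro i hi k hk h
      by_contra hcon
      rw [not_or] at hcon
      exact ((hpair i hi k hk).2 hcon).2 ⟨h, (hB i hi).trans (hB k hk).symm⟩
    have hs : ∑ i, c i (A 1 h1) = -2 := by
      rw [← Finset.add_sum_erase _ _ (Finset.mem_univ (0 : ZMod 11)), hc0, zero_add,
        Finset.sum_congr rfl (g := fun i => if i = 1 ∨ i = -1 then (-1 : ℤ) else 0) (fun i hi => by
          have hi' := (Finset.mem_erase.1 hi).1
          by_cases h : i = 1 ∨ i = -1
          · rw [if_pos h]
            have e : A i hi' = A 1 h1 := ((hpair i hi' 1 h1).1 (by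
              rcases h with rfl | rfl
              · exact Or.inr rfl
              · exact Or.inl (by ring))).1
            rw [← e, hcA]
          · rw [if_neg h, hval i hi' _ (hAo 1 h1), if_neg, if_neg]
            · intro e
              exact hne 1 h1 (e.trans (hB i hi'))
            · intro e
              apply h
              rcases hiff 1 h1 i hi' e with e' | e'
              · right; linear_combination e'
              · left; exact e'.symm)]
      decide
    have h11 := hcong (A 1 h1)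
    rw [hs] at h11
    let R : Finset {i : ZMod 11 // i ≠ 0} :=
      Finset.univ.filter fun i => i.1 = 1 ∨ i.1 = 2 ∨ i.1 = 3 ∨ i.1 = 4 ∨ i.1 = 5
    have hinj : Set.InjOn (fun i : {i : ZMod 11 // i ≠ 0} => A i.1 i.2) R := by
      intro i hi k hk h
      simp only [R, Finset.coe_filter, Finset.mem_univ, true_and, Set.mem_setOf_eq] at hi hk
      apply Subtype.ext
      have h' := hiff i.1 i.2 k.1 k.2 h
      rcases h' with h' | h'
      · exfalso
        rcases hi with a | a | a | a | a <;> rcases hk with b | b | b | b | b <;> rw [a, b] at h' <;>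
          revert h' <;> decide
      · exact h'
    have hle := hmono (R.image fun i => A i.1 i.2) (by
      intro h
      obtain ⟨i, -, hi⟩ := Finset.mem_image.1 h
      exact hAo i.1 i.2 hi)
    rw [Finset.sum_image hinj] at hle
    have h5 : 5 * dg (A 1 h1) ≤ ∑ i ∈ R, mm (A i.1 i.2) * dg (A i.1 i.2) := by
      have hR : R.card = 5 := by decide
      calc 5 * dg (A 1 h1) = ∑ _i ∈ R, dg (A 1 h1) := by rw [Finset.sum_const, hR, smul_eq_mul]
        _ ≤ _ := Finset.sum_le_sum fun i _ => (hdeq i.1 i.2).symm.trans_le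
              (Nat.le_mul_of_pos_left _ (show 0 < mm (A i.1 i.2) by rw [hmAB i.1 i.2]; exact Nat.succ_pos _))
    have := hdg1 (A 1 h1)
    have hA2 : dg (A 1 h1) = 2 := by omega
    have hB1 : dg (B 1 h1) = 1 := by rw [hdAB] at hA2; omega
    exact hBo 1 h1 (Subtype.ext (hlin _ (B 1 h1).2 (by rw [hdg, hB1, Nat.cast_one])))
  have hd : dg (A 1 h1) = 10 ∨ dg (A 1 h1) = 21 := by
    have hs : ∑ i, c i (A 1 h1) = -10 := by
      rw [← Finset.add_sum_erase _ _ (Finset.mem_univ (0 : ZMod 11)), hc0,
        Finset.sum_congr rfl (g := fun _ => (-1 : ℤ)) (fun i hi => by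
          have hi' := (Finset.mem_erase.1 hi).1
          rw [← hA i hi', hcA])]
      simp
    have h11 := hcong (A 1 h1)
    rw [hs] at h11
    have hle := hmono {A 1 h1} (by simpa using (hAo 1 h1).symm)
    rw [Finset.sum_singleton] at hle
    have hm' := hmAB 1 h1
    have : dg (A 1 h1) ≤ 21 := by
      have : dg (A 1 h1) ≤ mm (A 1 h1) * dg (A 1 h1) := Nat.le_mul_of_pos_left _ (by omega)
      omega
    have := hdg1 (A 1 h1)
    omega
  obtain ⟨a, ha, -⟩ := Cfsg.Agent.S0944.result (A 1 h1) D.t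
    (orderOf_eq_prime (by rw [pow_two]; exact D.t_sq) htn)
  set d := dg (A 1 h1) with hd_def
  have hQ : ∀ i, i ≠ 0 → ∑ χ : IrrCharacter G,
      (c i χ : ℂ) * ((χ : G → ℂ) D.t * (χ : G → ℂ) D.t / (χ : G → ℂ) 1) =
        1 - (a : ℂ) ^ 2 / d + ((a : ℂ) - 1) ^ 2 / ((d : ℂ) - 1) := by
    intro i hi
    have hBt : (B i hi : G → ℂ) D.t = (a : ℂ) - 1 := by
      have h := congrFun (hcsum i) D.t
      rw [theta_t, Finset.sum_apply, ← Finset.add_sum_erase _ _ (Finset.mem_univ one),
        ← Finset.sum_subset (s₁ := {A i hi, B i hi}) (by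
            intro χ hχ
            rcases Finset.mem_insert.1 hχ with rfl | h
            · simp [hAo]
            · rw [Finset.mem_singleton] at h; subst h; simp [hBo])
          (fun χ hχ h => by
            simp only [Finset.mem_insert, Finset.mem_singleton, not_or] at h
            simp [hcz i hi χ (Finset.mem_erase.1 hχ).1 h.1 h.2]),
        Finset.sum_pair (hne i hi)] at h
      simp only [Pi.smul_apply, smul_eq_mul, hc1 i hi, hcA, hcB] at h
      rw [hA i hi, ha] at h
      simp only [one, Pi.one_apply] at h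
      push_cast at h
      linear_combination -h
    rw [← Finset.add_sum_erase _ _ (Finset.mem_univ one),
      ← Finset.sum_subset (s₁ := {A i hi, B i hi}) (by
          intro χ hχ
          rcases Finset.mem_insert.1 hχ with rfl | h
          · simp [hAo]
          · rw [Finset.mem_singleton] at h; subst h; simp [hBo])
        (fun χ hχ h => by
          simp only [Finset.mem_insert, Finset.mem_singleton, not_or] at h
          simp [hcz i hi χ (Finset.mem_erase.1 hχ).1 h.1 h.2]),
      Finset.sum_pair (hne i hi), hc1 i hi, hcA, hcB, hBt, hdg (A i hi), hdg (B i hi)]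
    have hdB : ((dg (B i hi) : ℕ) : ℂ) = (d : ℂ) - 1 := by
      have e : d = dg (B i hi) + 1 := by rw [hd_def, ← hA i hi]; exact hdAB i hi
      rw [e]; push_cast; ring
    rw [hdB, hA i hi, ha]
    simp only [one, Pi.one_apply]
    push_cast
    ring
  have hform := class_mult_formula D.t D.t (D.e 1 : G)
  rw [pairs_card D htn] at hform
  have hS : ∑ χ : IrrCharacter G,
      (χ : G → ℂ) D.t * (χ : G → ℂ) D.t * conj ((χ : G → ℂ) (D.e 1 : G)) / (χ : G → ℂ) 1 =
        1 - (a : ℂ) ^ 2 / d + ((a : ℂ) - 1) ^ 2 / ((d : ℂ) - 1) := by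
    have e : ∀ χ : IrrCharacter G,
        (χ : G → ℂ) D.t * (χ : G → ℂ) D.t * conj ((χ : G → ℂ) (D.e 1 : G)) / (χ : G → ℂ) 1 =
        -∑ i : ZMod 11, om (-i) * ((c i χ : ℂ) * ((χ : G → ℂ) D.t * (χ : G → ℂ) D.t / (χ : G → ℂ) 1)) := by
      intro χ
      rw [value_eq D (hcl χ) 1, if_neg h1, zero_sub]
      simp only [hc, mul_one]
      rw [mul_neg, neg_div, Finset.mul_sum, Finset.sum_div]
      exact congrArg Neg.neg (Finset.sum_congr rfl fun i _ => by ring)
    have e4 : ∀ i : ZMod 11, ∑ χ : IrrCharacter G,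
        om (-i) * ((c i χ : ℂ) * ((χ : G → ℂ) D.t * (χ : G → ℂ) D.t / (χ : G → ℂ) 1)) =
        (if i = 0 then 0 else om (-i)) *
          (1 - (a : ℂ) ^ 2 / d + ((a : ℂ) - 1) ^ 2 / ((d : ℂ) - 1)) := by
      intro i
      rw [← Finset.mul_sum]
      by_cases hi : i = 0
      · subst hi; simp [hc0]
      · rw [hQ i hi, if_neg hi]
    rw [Finset.sum_congr rfl fun χ _ => e χ, Finset.sum_neg_distrib, Finset.sum_comm,
      Finset.sum_congr rfl fun i _ => e4 i, ← Finset.sum_mul,
      ← Finset.add_sum_erase _ _ (Finset.mem_univ (0 : ZMod 11)), if_pos rfl, zero_add,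
      Finset.sum_congr rfl (fun i hi => if_neg (Finset.mem_erase.1 hi).1)]
    have e3 : ∑ i ∈ Finset.univ.erase (0 : ZMod 11), om (-i) = -1 := by
      have h := sum_om (-1)
      rw [if_neg (by decide), ← Finset.add_sum_erase _ _ (Finset.mem_univ (0 : ZMod 11))] at h
      simp only [mul_zero, AddChar.map_zero_eq_one, neg_one_mul] at h
      linear_combination h
    rw [e3]; ring
  rw [hS] at hform
  refine five_dvd_of_eq (Nat.card G) (Nat.card {y : G // IsConj D.t y}) d a hd ?_
  have hd0 : (d : ℂ) ≠ 0 := by rcases hd with e | e <;> rw [e] <;> norm_num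
  have hd1 : (d : ℂ) - 1 ≠ 0 := by rcases hd with e | e <;> rw [e] <;> norm_num
  have hg : (Nat.card G : ℂ) ≠ 0 := Nat.cast_ne_zero.2 Nat.card_pos.ne'
  field_simp at hform
  push_cast at hform
  have : (((11 : ℤ) * d * (d - 1) * Nat.card G : ℤ) : ℂ) =
      ((((Nat.card {y : G // IsConj D.t y} : ℕ) : ℤ) ^ 2 * (a - d) ^ 2 : ℤ) : ℂ) := by
    push_cast
    linear_combination hform
  exact_mod_cast this

end Cfsg.Agent.HallSylow
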