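/-
No even primitive permutation group of degree 22 has a point stabilizer normalizing a Sylow
3-subgroup that fixes only that point (M. Hall).

Main result: `Cfsg.Agent.HallSylow.false_of_deg`.
-/
import Cfsg.Agent.Lib.HallSylow.Chars
import Cfsg.Agent.Lib.Char.Perm
import Cfsg.Agent.Lib.Char.Linear
import Cfsg.Agent.S0713

set_option autoImplicit false
set_option linter.unusedSectionVars false

namespace Cfsg.Agent.HallSylow

open Equiv MulAction Subgroup
open scoped Pointwise

/-- Powers by an exponent prime to the order: a 5-element moves nothing inside a small invariant set. -/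
theorem exists_mul_mod_five : ∀ d : Fin 5, d ≠ 0 → ∃ m : Fin 5, (d.val * m.val) % 5 = 1 := by decide

theorem eq_pow_of_pow {M : Type*} [Monoid M] {g : M} (hg : orderOf g = 5) {d : ℕ} (hd : 0 < d)
    (hd5 : d < 5) : ∃ m : ℕ, g = (g ^ d) ^ m := by
  obtain ⟨m, hm⟩ := exists_mul_mod_five ⟨d, hd5⟩ (fun h => by simp [Fin.ext_iff] at h; omega)
  refine ⟨m, ?_⟩
  rw [← pow_mul, ← pow_mod_orderOf, hg, show (d * m.val) % 5 = 1 from hm, pow_one]

/-- A group of order prime to 3 cannot act transitively on seven points with an element of order 5. -/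
theorem seven {B : Type*} [Fintype B] [DecidableEq B] (hB : Fintype.card B = 7) (M : Subgroup (Perm B))
    (h3 : ¬ 3 ∣ Nat.card M) (htr : ∀ a b : B, ∃ m ∈ M, (m : Perm B) a = b) {g : Perm B} (hg : g ∈ M)
    (h5 : orderOf g = 5) : False := by
  classical
  obtain ⟨n, hn⟩ := Perm.cycleType_prime_order (σ := g) (by rw [h5]; norm_num)
  have hsupp : g.support.card = (n + 1) * 5 := by
    rw [← Perm.sum_cycleType, hn, h5, Multiset.sum_replicate, smul_eq_mul]
  have hn0 : n = 0 := by have := Finset.card_le_univ g.support; omega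
  subst hn0
  have hcyc : g.IsCycle := by rw [← Perm.card_cycleType_eq_one, hn]; simp
  obtain ⟨c, d, hcd, hfix⟩ := Finset.card_eq_two.1 (show g.supportᶜ.card = 2 by
    rw [Finset.card_compl, hsupp, hB])
  have hfix' : ∀ b, g b = b ↔ b = c ∨ b = d := by
    intro b
    have : b ∈ g.supportᶜ ↔ b ∈ ({c, d} : Finset B) := by rw [hfix]
    simpa [Perm.mem_support] using this
  -- the stabilizer of a point fixes exactly one further point
  have huniq : ∀ b : B, ∃! b' : B, b' ≠ b ∧ ∀ m ∈ M, m b = b → m b' = b' := by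
    have hc : ∃! b' : B, b' ≠ c ∧ ∀ m ∈ M, m c = c → m b' = b' := by
      refine ⟨d, ⟨hcd.symm, ?_⟩, ?_⟩
      · by_contra hcon
        push Not at hcon
        obtain ⟨m, hm, hmc, hmd⟩ := hcon
        let Mc : Subgroup M := stabilizer M c
        have hmem : ∀ k : Mc, (k.1 : Perm B) c = c := fun k => k.2
        have hsub : Finset.univ.erase c ⊆ (orbit Mc d).toFinset := by
          intro b hb
          rw [Finset.mem_erase] at hb
          rw [Set.mem_toFinset]
          by_cases hbd : b = d
          · subst hbd; exact mem_orbit_self _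
          have hb' : g b ≠ b := fun h => by
            rcases (hfix' b).1 h with h | h
            · exact hb.1 h
            · exact hbd h
          have hmd' : g (m d) ≠ m d := fun h => by
            rcases (hfix' _).1 h with h | h
            · exact hcd (m.injective (hmc.trans h.symm))
            · exact hmd h
          obtain ⟨i, hi⟩ := hcyc.exists_pow_eq hmd' hb'
          refine ⟨⟨⟨g ^ i * m, M.mul_mem (M.pow_mem hg i) hm⟩, ?_⟩, ?_⟩
          · show (g ^ i * m) c = c
            rw [Perm.mul_apply, hmc]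
            exact Perm.pow_apply_eq_self_of_apply_eq_self ((hfix' c).2 (Or.inl rfl)) i
          · show (g ^ i * m) d = b
            rw [Perm.mul_apply, hi]
        have hsub' : (orbit Mc d).toFinset ⊆ Finset.univ.erase c := by
          intro b hb
          rw [Set.mem_toFinset] at hb
          obtain ⟨k, rfl⟩ := hb
          rw [Finset.mem_erase]
          refine ⟨fun h => hcd.symm ?_, Finset.mem_univ _⟩
          exact (k.1 : Perm B).injective (h.trans (hmem k).symm)
        have h6 : Nat.card (orbit Mc d) = 6 := by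
          rw [Nat.card_eq_fintype_card, ← Set.toFinset_card,
            Finset.Subset.antisymm hsub' hsub, Finset.card_erase_of_mem (Finset.mem_univ c),
            Finset.card_univ, hB]
        refine h3 (dvd_trans ?_ (Subgroup.card_subgroup_dvd_card Mc))
        refine dvd_trans ⟨2, rfl⟩ (h6 ▸ ?_ : 6 ∣ Nat.card Mc)
        rw [← Nat.card_congr (MulAction.orbitProdStabilizerEquivGroup Mc d).symm.symm, Nat.card_prod]
        exact dvd_mul_right _ _
      · rintro b' ⟨hb', hall⟩
        exact ((hfix' b').1 (hall g hg ((hfix' c).2 (Or.inl rfl)))).resolve_left hb'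
    intro b
    obtain ⟨k, hk, hkb⟩ := htr c b
    obtain ⟨c', ⟨h1, h2⟩, hun⟩ := hc
    refine ⟨k c', ⟨fun h => h1 (k.injective (h.trans hkb.symm)), fun m hm hmb => ?_⟩, ?_⟩
    · have := h2 (k⁻¹ * m * k) (M.mul_mem (M.mul_mem (M.inv_mem hk) hm) hk)
        (by simp [Perm.mul_apply, hkb, hmb, Equiv.symm_apply_eq])
      simpa [Perm.mul_apply, Equiv.symm_apply_eq] using this
    · rintro b' ⟨hb', hall⟩
      have : k⁻¹ b' = c' := hun (k⁻¹ b') ⟨fun h => hb' (by rw [← hkb, ← h]; simp), fun m hm hmc => by
        have := hall (k * m * k⁻¹) (M.mul_mem (M.mul_mem hk hm) (M.inv_mem hk))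
          (by rw [← hkb]; simp [Perm.mul_apply, hmc])
        rw [Perm.mul_apply, Perm.mul_apply] at this
        exact k.injective (this.trans (by simp))⟩
      rw [← this]; simp
  choose σ hσ hσu using huniq
  have hinv : Function.Involutive σ := by
    intro b
    refine (hσu (σ b) b ⟨(hσ b).1.symm, ?_⟩).symm
    have hle : stabilizer M b ≤ stabilizer M (σ b) := fun m hm => (hσ b).2 m.1 m.2 hm
    have heq : stabilizer M b = stabilizer M (σ b) := by
      obtain ⟨k, hk, hkb⟩ := htr b (σ b)
      refine eq_of_le_of_card_ge hle ?_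
      have hcard := MulAction.stabilizerEquivStabilizer (g := (⟨k, hk⟩ : M)) (a := b) (b := σ b) hkb.symm
      rw [Nat.card_congr hcard.toEquiv]
    intro m hm hmb
    have : (⟨m, hm⟩ : M) ∈ stabilizer M b := by rw [heq]; exact hmb
    exact this
  let s : Perm B := hinv.toPerm
  have h2 : 2 ∣ s.support.card := Perm.two_dvd_card_support (by
    ext b; simp [s, pow_two, hinv b])
  have hs : s.support = Finset.univ := by
    ext b; simp [s, (hσ b).1]
  rw [hs, Finset.card_univ, hB] at h2
  omega

variable {Ω : Type*} [Fintype Ω] [DecidableEq Ω]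

/-- In a primitive group, if all elements of order `r` of `G_α` fix `β ≠ α` there are none. -/
theorem no_elements_of_fix {G : Type*} [Group G] [Finite G] [MulAction G Ω] [FaithfulSMul G Ω]
    [IsPreprimitive G Ω] [Nontrivial Ω] (r : ℕ) (hr : r ≠ 1) {α β : Ω}
    (hne : ¬ stabilizer G α ≤ stabilizer G β)
    (h : ∀ g : G, orderOf g = r → g • α = α → g • β = β) {g : G} (hg : orderOf g = r) : g • α ≠ α := by
  intro hgα
  let T : Ω → Set G := fun γ => {y | orderOf y = r ∧ y • γ = γ}
  have hconj : ∀ (k : G) (γ : Ω) (y : G), y ∈ T γ → k * y * k⁻¹ ∈ T (k • γ) := by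
    intro k γ y hy
    refine ⟨(MulEquiv.orderOf_eq (MulAut.conj k) y).trans hy.1, ?_⟩
    rw [mul_smul, mul_smul, inv_smul_smul, hy.2]
  have hT : T α = T β := by
    refine Set.eq_of_subset_of_ncard_le (fun y hy => ⟨hy.1, h y hy.1 hy.2⟩) ?_ (Set.toFinite _)
    obtain ⟨k, hk⟩ := exists_smul_eq G β α
    refine Set.ncard_le_ncard_of_injOn (fun y => k * y * k⁻¹) (fun y hy => hk ▸ hconj k β y hy)
      (fun a _ b _ e => mul_left_cancel (mul_right_cancel e)) (Set.toFinite _)
  let N : Subgroup G := Subgroup.normalizer (T α)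
  have hα : stabilizer G α ≤ N := by
    intro k hk
    refine Subgroup.mem_normalizer_fintype fun y hy => ?_
    have := hconj k α y hy
    rwa [show k • α = α from hk] at this
  have hβ : stabilizer G β ≤ N := by
    intro k hk
    refine Subgroup.mem_normalizer_fintype fun y hy => ?_
    have := hconj k β y (hT ▸ hy)
    rw [show k • β = β from hk] at this
    exact hT.symm ▸ this
  have htop : N = ⊤ := by
    have hco := IsPreprimitive.isCoatom_stabilizer_of_isPreprimitive (G := G) α
    refine hco.2 N (lt_of_le_of_ne hα fun e => hne ?_)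
    have hle : stabilizer G β ≤ stabilizer G α := e ▸ hβ
    obtain ⟨k, hk⟩ := exists_smul_eq G α β
    refine (eq_of_le_of_card_ge hle ?_).ge
    rw [Nat.card_congr (MulAction.stabilizerEquivStabilizer (g := k) (a := α) (b := β) hk.symm).toEquiv]
  have hg1 : g = 1 := by
    apply eq_of_smul_eq_smul (α := Ω)
    intro γ
    rw [one_smul]
    obtain ⟨k, hk⟩ := exists_smul_eq G α γ
    have hkN : k⁻¹ ∈ N := htop ▸ Subgroup.mem_top _
    have h1 : k⁻¹ * g * k⁻¹⁻¹ ∈ T α :=
      (Subgroup.mem_set_normalizer_iff.1 hkN g).1 (show g ∈ T α from ⟨hg, hgα⟩)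
    have h2 := h1.2
    rw [inv_inv, mul_smul, mul_smul, hk, inv_smul_eq_iff, hk] at h2
    exact h2
  rw [hg1, orderOf_one] at hg
  exact hr hg.symm

section Main

variable (G : Subgroup (Perm Ω)) (hΩ : Fintype.card Ω = 22) (hA : G ≤ alternatingGroup Ω)
  [IsPreprimitive G Ω] (P : Sylow 3 G) (α : Ω) (hfix : (P : Subgroup G) ≤ stabilizer G α)
  (honly : ∀ β : Ω, (P : Subgroup G) ≤ stabilizer G β → β = α)
  (hstab : stabilizer G α ≤ normalizer ((P : Subgroup G) : Set G))

include hΩ hfix honly hstab

theorem mem_orbit_smul {g : G} (hg : g • α = α) {γ δ : Ω} (h : δ ∈ orbit (P : Subgroup G) γ) :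
    g • δ ∈ orbit (P : Subgroup G) (g • γ) := by
  obtain ⟨q, rfl⟩ := h
  refine ⟨⟨g * q * g⁻¹, (Subgroup.mem_normalizer_iff.1 (hstab hg) q).1 q.2⟩, ?_⟩
  show (g * (q : G) * g⁻¹) • g • γ = g • ((q : G) • γ)
  rw [← mul_smul, inv_mul_cancel_right, mul_smul]

theorem card_orbit_cases {γ : Ω} (hγ : γ ≠ α) :
    Nat.card (orbit (P : Subgroup G) γ) = 3 ∨ Nat.card (orbit (P : Subgroup G) γ) = 9 := by
  classical
  have : Fact (Nat.Prime 3) := ⟨by norm_num⟩
  obtain ⟨k, hk⟩ := P.2.card_orbit γ
  have hsub : orbit (P : Subgroup G) γ ⊆ {α}ᶜ := by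
    rintro δ ⟨q, rfl⟩ (h : _ = α)
    refine hγ ((smul_left_cancel (q : G)) ?_)
    exact h.trans (hfix q.2).symm
  have h21 : Nat.card (orbit (P : Subgroup G) γ) ≤ 21 := by
    rw [Nat.card_coe_set_eq]
    refine (Set.ncard_le_ncard hsub (Set.toFinite _)).trans ?_
    rw [Set.ncard_compl, Set.ncard_singleton, Nat.card_eq_fintype_card, hΩ]
  have hk0 : k ≠ 0 := by
    rintro rfl
    refine hγ (honly γ fun q hq => ?_)
    rw [pow_zero, Nat.card_eq_one_iff_unique] at hk
    have h := @Subsingleton.elim _ hk.1 ⟨(⟨q, hq⟩ : (P : Subgroup G)) • γ, mem_orbit _ _⟩ ⟨γ, mem_orbit_self _⟩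
    exact congrArg Subtype.val h
  have hk3 : k < 3 := by
    by_contra h
    have : 3 ^ 3 ≤ 3 ^ k := Nat.pow_le_pow_right (by norm_num) (by omega)
    omega
  rw [hk]
  interval_cases k <;> simp_all

theorem notAlt : ¬ alternatingGroup Ω ≤ G := by
  classical
  intro hle
  have : Nontrivial Ω := Fintype.one_lt_card_iff_nontrivial.1 (by omega)
  obtain ⟨β, hβ⟩ := exists_ne α
  let O := (orbit (P : Subgroup G) β).toFinset
  have hO : O.card ≤ 9 := by
    simp only [O, Set.toFinset_card, ← Nat.card_eq_fintype_card]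
    rcases card_orbit_cases G hΩ P α hfix honly hstab hβ with h | h <;> omega
  obtain ⟨q, hq, hqβ⟩ : ∃ q ∈ (P : Subgroup G), q • β ≠ β := by
    by_contra h
    push Not at h
    exact hβ (honly β fun q hq => h q hq)
  obtain ⟨γ, hγ⟩ : ∃ γ, γ ∉ insert α O := by
    by_contra h
    push Not at h
    have := Finset.card_le_card (s := Finset.univ) (t := insert α O) (fun x _ => h x)
    have := Finset.card_insert_le α O
    rw [Finset.card_univ, hΩ] at *
    omega
  obtain ⟨δ, hδ⟩ : ∃ δ, δ ∉ ({α, β, q • β, γ} : Finset Ω) := by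
    by_contra h
    push Not at h
    have := Finset.card_le_card (s := Finset.univ) (t := ({α, β, q • β, γ} : Finset Ω)) (fun x _ => h x)
    have h4 : ({α, β, q • β, γ} : Finset Ω).card ≤ 4 := Finset.card_le_four
    rw [Finset.card_univ, hΩ] at *
    omega
  simp only [Finset.mem_insert, Finset.mem_singleton, not_or] at hγ hδ
  obtain ⟨hγα, hγO⟩ := hγ
  have hqO : q • β ∈ O := Set.mem_toFinset.2 ⟨⟨q, hq⟩, rfl⟩
  have hβO : β ∈ O := Set.mem_toFinset.2 (mem_orbit_self _)
  have hγβ : γ ≠ β := fun h => hγO (h ▸ hβO)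
  have hγb : γ ≠ q • β := fun h => hγO (h ▸ hqO)
  have hbα : q • β ≠ α := fun h => hβ (smul_left_cancel q (h.trans (hfix hq).symm))
  let c : Perm Ω := swap (q • β) γ * swap γ δ
  have hc : c ∈ G := hle (Perm.mem_alternatingGroup.2 (by
    rw [map_mul, Perm.sign_swap hγb.symm, Perm.sign_swap (Ne.symm hδ.2.2.2)]
    norm_num))
  have hcα : c α = α := by
    simp only [c, Perm.mul_apply]
    rw [swap_apply_of_ne_of_ne (Ne.symm hγα) (Ne.symm hδ.1), swap_apply_of_ne_of_ne hbα.symm (Ne.symm hγα)]
  have hcβ : c β = β := by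
    simp only [c, Perm.mul_apply]
    rw [swap_apply_of_ne_of_ne hγβ.symm (Ne.symm hδ.2.1), swap_apply_of_ne_of_ne (Ne.symm hqβ) hγβ.symm]
  have hcb : c (q • β) = γ := by
    simp only [c, Perm.mul_apply]
    rw [swap_apply_of_ne_of_ne hγb.symm (Ne.symm hδ.2.2.1), swap_apply_left]
  have h := mem_orbit_smul G hΩ P α hfix honly hstab (g := ⟨c, hc⟩) hcα (Set.mem_toFinset.1 hqO)
  rw [show (⟨c, hc⟩ : G) • (q • β) = γ from hcb, show (⟨c, hc⟩ : G) • β = β from hcβ] at h
  exact hγO (Set.mem_toFinset.2 h)

omit hΩ hfix honly hstab in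
theorem smul_apply' (g : G) (γ : Ω) : g • γ = (g : Perm Ω) γ := rfl

theorem no_prime_cycle {g : Perm Ω} (hg : g ∈ G) {p : ℕ} (hp : p.Prime) (hp19 : p ≤ 19)
    (hord : orderOf g = p) : 2 * p ≤ g.support.card := by
  classical
  obtain ⟨n, hn⟩ := Perm.cycleType_prime_order (σ := g) (hord ▸ hp)
  have hsupp : g.support.card = (n + 1) * p := by
    rw [← Perm.sum_cycleType, hn, hord, Multiset.sum_replicate, smul_eq_mul]
  rcases Nat.eq_zero_or_pos n with rfl | hpos
  · exfalso
    exact notAlt G hΩ P α hfix honly hstab (Cfsg.Agent.S0713.result G inferInstance hp (by omega) (by omega)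
      (by rw [← Perm.card_cycleType_eq_one, hn]; simp) (by rw [hsupp]; ring) hg)
  · rw [hsupp]; exact Nat.mul_le_mul_right p (by omega)

theorem orbit_invariant {g : G} (h5 : orderOf g = 5) (hgα : g • α = α) {γ : Ω} {d : ℕ} (hd : 0 < d)
    (hd5 : d < 5) {δ : Ω} (hδ : δ ∈ orbit (P : Subgroup G) γ)
    (h : g ^ d • δ ∈ orbit (P : Subgroup G) γ) : g • γ ∈ orbit (P : Subgroup G) γ := by
  have hpow : ∀ n : ℕ, g ^ n • α = α := fun n => (stabilizer G α).pow_mem hgα n
  have h1 : g ^ d • γ ∈ orbit (P : Subgroup G) γ := by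
    have h2 := mem_orbit_smul G hΩ P α hfix honly hstab (hpow d)
      (show γ ∈ orbit (P : Subgroup G) δ from mem_orbit_symm.1 hδ)
    rwa [orbit_eq_iff.2 h] at h2
  obtain ⟨m, hm⟩ := eq_pow_of_pow h5 hd hd5
  have : ∀ n : ℕ, (g ^ d) ^ n • γ ∈ orbit (P : Subgroup G) γ := by
    intro n
    induction n with
    | zero => rw [pow_zero, one_smul]; exact mem_orbit_self _
    | succ n ih =>
      have h2 := mem_orbit_smul G hΩ P α hfix honly hstab (hpow d) ih
      rw [orbit_eq_iff.2 h1, ← mul_smul, ← pow_succ'] at h2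
      exact h2
  rw [hm]; exact this m

theorem fix_in_three {g : G} (h5 : orderOf g = 5) (hgα : g • α = α) {γ : Ω}
    (h3 : Nat.card (orbit (P : Subgroup G) γ) = 3) (h : g • γ ∈ orbit (P : Subgroup G) γ) :
    g • γ = γ := by
  classical
  have hmem : ∀ n : ℕ, g ^ n • γ ∈ orbit (P : Subgroup G) γ := by
    intro n
    induction n with
    | zero => rw [pow_zero, one_smul]; exact mem_orbit_self _
    | succ n ih =>
      have h2 := mem_orbit_smul G hΩ P α hfix honly hstab hgα ih
      rw [orbit_eq_iff.2 h, ← mul_smul, ← pow_succ'] at h2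
      exact h2
  let f : Fin 4 → orbit (P : Subgroup G) γ := fun i => ⟨_, hmem i⟩
  obtain ⟨i, j, hne, hij⟩ := Fintype.exists_ne_map_eq_of_card_lt f (by
    rw [← Nat.card_eq_fintype_card, h3]; simp)
  have key : ∀ a b : ℕ, a < b → b < 5 → g ^ a • γ = g ^ b • γ → g • γ = γ := by
    intro a b hab hb e
    have e' : g ^ (b - a) • γ = γ := by
      apply smul_left_cancel (g ^ a)
      rw [← mul_smul, ← pow_add, show a + (b - a) = b by omega, e]
    obtain ⟨m, hm⟩ := eq_pow_of_pow h5 (d := b - a) (by omega) (by omega)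
    rw [hm]
    exact (stabilizer G γ).pow_mem e' m
  have e := congrArg Subtype.val hij
  simp only [f] at e
  rcases Nat.lt_or_gt_of_ne (fun h => hne (Fin.ext h)) with h | h
  · exact key i j h (by omega) e
  · exact key j i h (by omega) e.symm

theorem card_five_translates {g : G} (h5 : orderOf g = 5) (hgα : g • α = α) {γ : Ω} (hγ : γ ≠ α)
    (h : g • γ ∉ orbit (P : Subgroup G) γ) (Δ : Set Ω) (hΔ : α ∉ Δ)
    (hΔd : ∀ (n : ℕ), ∀ δ ∈ orbit (P : Subgroup G) γ, g ^ n • δ ∉ Δ) :
    5 * Nat.card (orbit (P : Subgroup G) γ) + Δ.ncard ≤ 21 := by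
  classical
  let f : Fin 5 × orbit (P : Subgroup G) γ → Ω := fun p => g ^ (p.1 : ℕ) • (p.2 : Ω)
  have hf : Function.Injective f := by
    rintro ⟨i, δ⟩ ⟨j, δ'⟩ e
    simp only [f] at e
    have key : ∀ (a b : ℕ) (u v : orbit (P : Subgroup G) γ), a < b → b < 5 →
        g ^ a • (u : Ω) = g ^ b • (v : Ω) → False := by
      intro a b u v hab hb e
      have e' : g ^ (b - a) • (v : Ω) = u := by
        apply smul_left_cancel (g ^ a)
        rw [← mul_smul, ← pow_add, show a + (b - a) = b by omega, e]
      exact h (orbit_invariant G hΩ P α hfix honly hstab h5 hgα (d := b - a) (by omega) (by omega)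
        v.2 (e'.symm ▸ u.2))
    rcases lt_trichotomy (i : ℕ) j with hl | hl | hl
    · exact (key _ _ δ δ' hl j.2 e).elim
    · obtain rfl := Fin.ext hl
      rw [Subtype.ext (smul_left_cancel _ e)]
    · exact (key _ _ δ' δ hl i.2 e.symm).elim
  have hd : Disjoint (Set.range f) Δ := by
    rw [Set.disjoint_left]
    rintro _ ⟨⟨i, δ⟩, rfl⟩
    exact hΔd i δ δ.2
  have hsub : Set.range f ∪ Δ ⊆ {α}ᶜ := by
    rintro x (⟨⟨i, δ⟩, rfl⟩ | hx) (e : _ = α)
    · simp only [f] at e
      have e2 : (δ : Ω) = α := smul_left_cancel _ (e.trans ((stabilizer G α).pow_mem hgα i).symm)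
      obtain ⟨q, hq⟩ := δ.2
      exact hγ (smul_left_cancel (q : G) ((hq.trans e2).trans (hfix q.2).symm))
    · exact hΔ (e ▸ hx)
  have := Set.ncard_le_ncard hsub (Set.toFinite _)
  rw [Set.ncard_union_eq hd (Set.toFinite _) (Set.toFinite _), Set.ncard_range_of_injective hf,
    Set.ncard_compl, Set.ncard_singleton, Nat.card_prod, Nat.card_fin, Nat.card_eq_fintype_card,
    Nat.card_eq_fintype_card] at this
  rw [Nat.card_eq_fintype_card]
  omega

theorem not_five_dvd : ¬ 5 ∣ Nat.card G := by
  classical
  have : Nontrivial Ω := Fintype.one_lt_card_iff_nontrivial.1 (by omega)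
  intro hdvd
  let H := stabilizer G α
  have hH : 5 ∣ Nat.card H := by
    have h := Subgroup.card_mul_index H
    rw [MulAction.index_stabilizer_of_transitive, Nat.card_eq_fintype_card (α := Ω), hΩ] at h
    have h5 : Nat.Coprime 5 22 := by norm_num
    exact h5.dvd_of_dvd_mul_right (h ▸ hdvd)
  have : Fact (Nat.Prime 5) := ⟨by norm_num⟩
  obtain ⟨g₀, hg₀⟩ := exists_prime_orderOf_dvd_card' 5 hH
  rw [← Subgroup.orderOf_coe] at hg₀
  suffices ∃ β, β ≠ α ∧ ∀ g : G, orderOf g = 5 → g • α = α → g • β = β by
    obtain ⟨β, hβ, hall⟩ := this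
    exact no_elements_of_fix 5 (by norm_num) (fun hle => hβ (honly β (hfix.trans hle))) hall hg₀ g₀.2
  by_cases h9 : ∃ δ, δ ≠ α ∧ Nat.card (orbit (P : Subgroup G) δ) = 9
  · obtain ⟨δ, hδ, hcard⟩ := h9
    obtain ⟨γ, hγ, hγ3⟩ : ∃ γ, γ ≠ α ∧ Nat.card (orbit (P : Subgroup G) γ) = 3 := by
      by_contra h
      push Not at h
      have key : ∀ γ, γ ≠ α → Nat.card (orbit (P : Subgroup G) γ) = 9 := fun γ hγ =>
        (card_orbit_cases G hΩ P α hfix honly hstab hγ).resolve_left (h γ hγ)
      have hsum : Fintype.card Ω = ∑ q : orbitRel.Quotient (P : Subgroup G) Ω,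
          Fintype.card (orbit (P : Subgroup G) q.out) := by
        rw [← Fintype.card_sigma]
        exact Fintype.card_congr (MulAction.selfEquivSigmaOrbits (P : Subgroup G) Ω)
      let q₀ : orbitRel.Quotient (P : Subgroup G) Ω := Quotient.mk _ α
      have hq₀ : Fintype.card (orbit (P : Subgroup G) q₀.out) = 1 := by
        have hout : q₀.out = α := by
          obtain ⟨q, hq⟩ := (orbitRel_apply.1 (Quotient.mk_out (s := orbitRel (P : Subgroup G) Ω) α))
          exact hq.symm.trans (hfix q.2)
        rw [Fintype.card_eq_one_iff]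
        refine ⟨⟨_, mem_orbit_self _⟩, ?_⟩
        rintro ⟨x, q, rfl⟩
        exact Subtype.ext (by rw [hout]; exact hfix q.2)
      rw [← Finset.add_sum_erase _ _ (Finset.mem_univ q₀), hq₀,
        Finset.sum_congr rfl (g := fun _ => 9) (fun q hq => by
          rw [← Nat.card_eq_fintype_card]
          refine key _ fun e => (Finset.mem_erase.1 hq).1 ?_
          rw [← Quotient.out_eq q, e]), Finset.sum_const, smul_eq_mul, hΩ] at hsum
      omega
    refine ⟨γ, hγ, fun g h5 hgα => fix_in_three G hΩ P α hfix honly hstab h5 hgα hγ3 ?_⟩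
    by_contra hg
    have hinvΔ : g • δ ∈ orbit (P : Subgroup G) δ := by
      by_contra h
      have := card_five_translates G hΩ P α hfix honly hstab h5 hgα hδ h ∅ (by simp) (by simp)
      omega
    have hpowΔ : ∀ n : ℕ, g ^ n • δ ∈ orbit (P : Subgroup G) δ := by
      intro n
      induction n with
      | zero => rw [pow_zero, one_smul]; exact mem_orbit_self _
      | succ n ih =>
        have h2 := mem_orbit_smul G hΩ P α hfix honly hstab hgα ih
        rw [orbit_eq_iff.2 hinvΔ, ← mul_smul, ← pow_succ'] at h2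
        exact h2
    have := card_five_translates G hΩ P α hfix honly hstab h5 hgα hγ hg (orbit (P : Subgroup G) δ) (by
        rintro ⟨q, hq⟩
        exact hδ (smul_left_cancel (q : G) (hq.trans (hfix q.2).symm))) (by
      intro n u hu hmem
      have h2 := mem_orbit_smul G hΩ P α hfix honly hstab ((stabilizer G α).pow_mem hgα n) hu
      have e1 : orbit (P : Subgroup G) (g ^ n • γ) = orbit (P : Subgroup G) δ :=
        (orbit_eq_iff.2 h2).symm.trans (orbit_eq_iff.2 hmem)
      have h3 : g ^ n • γ ∈ orbit (P : Subgroup G) (g ^ n • δ) := by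
        rw [orbit_eq_iff.2 (hpowΔ n), ← e1]; exact mem_orbit_self _
      have h4 := mem_orbit_smul G hΩ P α hfix honly hstab ((stabilizer G α).inv_mem
        ((stabilizer G α).pow_mem hgα n)) h3
      rw [inv_smul_smul, inv_smul_smul] at h4
      rw [← orbit_eq_iff] at h4
      rw [h4] at hγ3
      omega)
    rw [Nat.card_coe_set_eq] at hcard
    rw [hcard, hγ3] at this
    omega
  · push Not at h9
    have key : ∀ γ, γ ≠ α → Nat.card (orbit (P : Subgroup G) γ) = 3 := fun γ hγ =>
      (card_orbit_cases G hΩ P α hfix honly hstab hγ).resolve_right (h9 γ hγ)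
    by_contra hcon
    push Not at hcon
    let B := {s : Set Ω // ∃ γ, γ ≠ α ∧ s = orbit (P : Subgroup G) γ}
    have himg : ∀ (g : H) (γ : Ω), (fun x => (g : G) • x) '' orbit (P : Subgroup G) γ =
        orbit (P : Subgroup G) ((g : G) • γ) := by
      intro g γ
      ext x
      constructor
      · rintro ⟨y, hy, rfl⟩
        exact mem_orbit_smul G hΩ P α hfix honly hstab g.2 hy
      · intro hx
        refine ⟨(g : G)⁻¹ • x, ?_, smul_inv_smul _ _⟩
        simpa using mem_orbit_smul G hΩ P α hfix honly hstab (H.inv_mem g.2) hx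
    have hne' : ∀ (g : H) (γ : Ω), γ ≠ α → (g : G) • γ ≠ α := fun g γ hγ e =>
      hγ (smul_left_cancel (g : G) (e.trans g.2.symm))
    letI act : MulAction H B :=
      { smul := fun g s => ⟨(fun x => (g : G) • x) '' s.1, by
          obtain ⟨γ, hγ, hs⟩ := s.2
          exact ⟨(g : G) • γ, hne' g γ hγ, by rw [hs, himg]⟩⟩
        one_smul := fun s => Subtype.ext (by
          show (fun x => ((1 : H) : G) • x) '' s.1 = s.1
          simp)
        mul_smul := fun g h s => Subtype.ext (by
          show (fun x => ((g * h : H) : G) • x) '' s.1 =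
            (fun x => (g : G) • x) '' ((fun x => (h : G) • x) '' s.1)
          rw [Set.image_image]
          simp [mul_smul]) }
    let mk : {γ // γ ≠ α} → B := fun γ => ⟨_, γ.1, γ.2, rfl⟩
    have hmk : Function.Surjective mk := fun ⟨s, γ, hγ, hs⟩ => ⟨⟨γ, hγ⟩, Subtype.ext hs.symm⟩
    have hsm : ∀ (g : H) (γ : {γ // γ ≠ α}), g • mk γ = mk ⟨(g : G) • γ.1, hne' g _ γ.2⟩ :=
      fun g γ => Subtype.ext (himg g γ.1)
    have : Fintype B := Fintype.ofFinite B
    have hcardB : Fintype.card B = 7 := by
      have h := Finset.card_eq_sum_card_fiberwise (f := mk) (s := Finset.univ) (t := Finset.univ)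
        (fun _ _ => Finset.mem_univ _)
      rw [Finset.sum_congr rfl (g := fun _ => 3) (fun b _ => ?_), Finset.sum_const, smul_eq_mul,
        Finset.card_univ, Finset.card_univ, Fintype.card_subtype_compl, Fintype.card_subtype_eq, hΩ] at h
      · omega
      obtain ⟨γ, rfl⟩ := hmk b
      refine Eq.trans ?_ (key γ.1 γ.2)
      rw [Nat.card_coe_set_eq, Set.ncard_eq_toFinset_card',
        ← Finset.card_map ⟨Subtype.val, Subtype.val_injective⟩]
      congr 1
      ext x
      simp only [Finset.mem_map, Finset.mem_filter, Finset.mem_univ, true_and, Set.mem_toFinset,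
        Function.Embedding.coeFn_mk]
      constructor
      · rintro ⟨u, hu, rfl⟩
        have : orbit (P : Subgroup G) u.1 = orbit (P : Subgroup G) γ.1 := congrArg Subtype.val hu
        rw [← this]; exact mem_orbit_self _
      · intro hx
        refine ⟨⟨x, ?_⟩, Subtype.ext (orbit_eq_iff.2 hx), rfl⟩
        obtain ⟨q, rfl⟩ := hx
        exact fun e => γ.2 (smul_left_cancel (q : G) (e.trans (hfix q.2).symm))
    let φ := MulAction.toPermHom H B
    let M := φ.range
    have hM3 : ¬ 3 ∣ Nat.card M := by
      have : Fact (Nat.Prime 3) := ⟨by norm_num⟩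
      intro h
      refine P.not_dvd_index (h.trans ?_)
      rw [← Subgroup.index_ker]
      refine (Subgroup.index_dvd_of_le (H := (P : Subgroup G).subgroupOf H) ?_).trans ?_
      · intro q hq
        rw [MonoidHom.mem_ker]
        refine Equiv.ext fun b => ?_
        obtain ⟨γ, rfl⟩ := hmk b
        show q • mk γ = mk γ
        rw [hsm]
        exact Subtype.ext (orbit_eq_iff.2 ⟨⟨_, hq⟩, rfl⟩)
      · exact ⟨H.index, (Subgroup.relIndex_mul_index hfix).symm⟩
    -- each block is moved by an element of order five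
    have hmove : ∀ b : B, ∃ g : H, φ g ^ 5 = 1 ∧ φ g b ≠ b := by
      intro b
      obtain ⟨γ, rfl⟩ := hmk b
      obtain ⟨g, h5, hgα, hg⟩ := hcon γ.1 γ.2
      refine ⟨⟨g, hgα⟩, ?_, fun e => hg (fix_in_three G hΩ P α hfix honly hstab h5 hgα (key _ γ.2) ?_)⟩
      · rw [← map_pow]
        convert map_one φ
        exact Subtype.ext (by show g ^ 5 = 1; rw [← h5]; exact pow_orderOf_eq_one g)
      · have e' : orbit (P : Subgroup G) (g • γ.1) = orbit (P : Subgroup G) γ.1 := by
          have := congrArg Subtype.val ((hsm ⟨g, hgα⟩ γ).symm.trans e)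
          exact this
        rw [← e']; exact mem_orbit_self _
    have hbig : ∀ b : B, 5 ≤ (orbit M b).ncard := by
      intro b
      obtain ⟨g, hg5, hgb⟩ := hmove b
      have hord : orderOf (φ g) = 5 :=
        orderOf_eq_prime hg5 (fun h => hgb (by rw [h]; rfl))
      let f : Fin 5 → orbit M b := fun i => ⟨(φ g ^ (i : ℕ)) b, ⟨⟨_, M.pow_mem ⟨g, rfl⟩ i⟩, rfl⟩⟩
      have hf : Function.Injective f := by
        intro i j e
        have e' := congrArg Subtype.val e
        simp only [f] at e'
        have key : ∀ a c : ℕ, a < c → c < 5 → (φ g ^ a) b = (φ g ^ c) b → False := by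
          intro a c hac hc e
          have e1 : (φ g ^ (c - a)) b = b := by
            apply (φ g ^ a).injective
            rw [← Perm.mul_apply, ← pow_add, show a + (c - a) = c by omega, e]
          obtain ⟨m, hm⟩ := eq_pow_of_pow hord (d := c - a) (by omega) (by omega)
          exact hgb (by rw [hm]; exact Perm.pow_apply_eq_self_of_apply_eq_self e1 m)
        rcases lt_trichotomy (i : ℕ) j with hl | hl | hl
        · exact (key _ _ hl j.2 e').elim
        · exact Fin.ext hl
        · exact (key _ _ hl i.2 e'.symm).elim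
      have := Nat.card_le_card_of_injective f hf
      rwa [Nat.card_fin, Nat.card_coe_set_eq] at this
    have htr : ∀ a b : B, ∃ m ∈ M, (m : Perm B) a = b := by
      intro a b
      by_cases h : b ∈ orbit M a
      · obtain ⟨m, hm⟩ := h
        exact ⟨m.1, m.2, hm⟩
      exfalso
      have hd : Disjoint (orbit M a) (orbit M b) :=
        (MulAction.orbit.eq_or_disjoint a b).resolve_left fun e => h (e.symm ▸ mem_orbit_self b)
      have := Set.ncard_le_card (orbit M a ∪ orbit M b)
      rw [Set.ncard_union_eq hd (Set.toFinite _) (Set.toFinite _), Nat.card_eq_fintype_card, hcardB] at this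
      have := hbig a
      have := hbig b
      omega
    obtain ⟨b⟩ : Nonempty B := Fintype.card_pos_iff.1 (by omega)
    obtain ⟨g, hg5, hgb⟩ := hmove b
    exact seven hcardB M hM3 htr ⟨g, rfl⟩
      (orderOf_eq_prime hg5 (fun h => hgb (by rw [h]; rfl)))

include hA

theorem false_of_deg : False := by
  classical
  have : Nontrivial Ω := Fintype.one_lt_card_iff_nontrivial.1 (by omega)
  have hp11 : Fact (Nat.Prime 11) := ⟨by norm_num⟩
  have h5 := not_five_dvd G hΩ P α hfix honly hstab
  have h22 : 22 ∣ Nat.card G := by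
    have h := Subgroup.card_mul_index (stabilizer G α)
    rw [MulAction.index_stabilizer_of_transitive, Nat.card_eq_fintype_card (α := Ω), hΩ] at h
    exact ⟨_, h.symm.trans (mul_comm _ _)⟩
  have hfpf : ∀ g : G, orderOf g = 11 → ∀ γ : Ω, g • γ ≠ γ := by
    intro g hg γ e
    have h := no_prime_cycle G hΩ P α hfix honly hstab g.2 (p := 11) (by norm_num) (by norm_num)
      (by rw [Subgroup.orderOf_coe, hg])
    have : (g : Perm Ω).support = Finset.univ :=
      Finset.eq_univ_of_card _ (le_antisymm (Finset.card_le_univ _) (by omega))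
    exact Perm.mem_support.1 (this ▸ Finset.mem_univ γ) e
  obtain ⟨S⟩ := (inferInstance : Nonempty (Sylow 11 G))
  have hS : Nat.card (S : Subgroup G) = 11 := by
    obtain ⟨k, hk⟩ := IsPGroup.iff_card.1 S.2
    have hk1 : 1 ≤ k := by
      by_contra h
      rw [S.card_eq_multiplicity] at hk
      have h2 := (Nat.Prime.dvd_iff_one_le_factorization hp11.out (Nat.card_pos (α := G)).ne').1
        ((dvd_mul_left 11 2).trans h22)
      have := Nat.pow_right_injective (le_refl 2 |>.trans (by norm_num : 2 ≤ 11)) hk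
      omega
    have hfree : stabilizer (S : Subgroup G) α = ⊥ := by
      rw [eq_bot_iff]
      intro q hq
      by_contra hq1
      obtain ⟨j, hj⟩ := (IsPGroup.iff_orderOf.1 S.2) q
      have hj0 : j ≠ 0 := by
        rintro rfl
        exact hq1 (orderOf_eq_one_iff.1 (by rw [hj, pow_zero]))
      have ho : orderOf (q ^ (11 ^ (j - 1))) = 11 := by
        rw [orderOf_pow' q (by positivity), hj, Nat.gcd_eq_right (pow_dvd_pow 11 (by omega)),
          Nat.pow_div (by omega) (by norm_num), show j - (j - 1) = 1 by omega, pow_one]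
      exact hfpf _ (by rw [Subgroup.orderOf_coe]; exact ho) α
        ((stabilizer (S : Subgroup G) α).pow_mem hq _)
    have hle : Nat.card (S : Subgroup G) ≤ 22 := by
      rw [← hΩ, ← Nat.card_eq_fintype_card]
      refine Nat.card_le_card_of_injective (fun q : (S : Subgroup G) => q • α) fun a b e => ?_
      have : b⁻¹ * a ∈ stabilizer (S : Subgroup G) α := by
        show (b⁻¹ * a) • α = α
        rw [mul_smul, show a • α = b • α from e, inv_smul_smul]
      rw [hfree, Subgroup.mem_bot] at this
      exact (inv_mul_eq_one.1 this).symm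
    have : k < 2 := by
      by_contra h
      have : 11 ^ 2 ≤ 11 ^ k := Nat.pow_le_pow_right (by norm_num) (by omega)
      omega
    rw [hk, show k = 1 by omega, pow_one]
  let X := (S : Subgroup G)
  have : IsCyclic X := isCyclic_of_prime_card hS
  obtain ⟨x, hx⟩ := IsCyclic.exists_generator (α := X)
  have hxo : orderOf (x : G) = 11 := by
    rw [Subgroup.orderOf_coe, orderOf_eq_card_of_forall_mem_zpowers hx, hS]
  have hX : X = Subgroup.zpowers (x : G) := by
    symm
    refine Subgroup.eq_of_le_of_card_ge (Subgroup.zpowers_le.2 x.2) ?_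
    rw [Nat.card_zpowers, hxo]; exact hS.le
  let C := Subgroup.centralizer ({(x : G)} : Set G)
  have hXC : X ≤ C := by
    rw [hX, Subgroup.zpowers_le, Subgroup.mem_centralizer_singleton_iff]
  have hsupp2 : ∀ y : G, orderOf y = 11 → (y : Perm Ω).cycleType.card = 2 := by
    intro y hy
    obtain ⟨n, hn⟩ := Perm.cycleType_prime_order (σ := (y : Perm Ω))
      (by rw [Subgroup.orderOf_coe, hy]; norm_num)
    have h := Perm.sum_cycleType (y : Perm Ω)
    have hu : (y : Perm Ω).support = Finset.univ := by
      ext γ; simp only [Perm.mem_support, Finset.mem_univ, iff_true]; exact hfpf y hy γ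
    rw [hu, Finset.card_univ, hΩ, hn, Multiset.sum_replicate, Subgroup.orderOf_coe, hy, smul_eq_mul] at h
    rw [hn, Multiset.card_replicate]
    omega
  -- the centralizer acts semiregularly
  have hsemi : ∀ c ∈ C, ∀ γ : Ω, c • γ = γ → c = 1 := by
    intro c hc γ hcγ
    have hcomm : Commute c (x : G) := (Subgroup.mem_centralizer_singleton_iff.1 hc)
    let O : Set Ω := Set.range fun i : ℕ => (x : G) ^ i • γ
    have hO : ∀ ω ∈ O, c • ω = ω := by
      rintro _ ⟨i, rfl⟩
      show c • (x : G) ^ i • γ = (x : G) ^ i • γ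
      rw [← mul_smul, (hcomm.pow_right i).eq, mul_smul, hcγ]
    have hinj : ∀ ω : Ω, Function.Injective fun i : Fin 11 => (x : G) ^ (i : ℕ) • ω := by
      intro ω i j e
      simp only at e
      by_contra hij
      have key : ∀ a b : ℕ, a < b → b < 11 → (x : G) ^ a • ω = (x : G) ^ b • ω → False := by
        intro a b hab hb e
        have e' : (x : G) ^ (b - a) • ω = ω := by
          apply smul_left_cancel ((x : G) ^ a)
          rw [← mul_smul, ← pow_add, show a + (b - a) = b by omega, e]
        refine hfpf _ ?_ ω e'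
        rw [orderOf_pow' _ (by omega), hxo,
          Nat.Coprime.gcd_eq_one ((Nat.Prime.coprime_iff_not_dvd hp11.out).2 fun h => by
            have := Nat.le_of_dvd (by omega) h; omega), Nat.div_one]
      rcases lt_trichotomy (i : ℕ) j with hl | hl | hl
      · exact key _ _ hl j.2 e
      · exact hij (Fin.ext hl)
      · exact key _ _ hl i.2 e.symm
    by_contra hc1
    obtain ⟨δ, hδ⟩ : ∃ δ, c • δ ≠ δ := by
      by_contra h
      push Not at h
      exact hc1 (Subtype.ext (Equiv.ext h))
    -- the two orbits of `x` cover everything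
    have hcover : ∀ ω : Ω, ω ∈ O ∨ ∃ i : ℕ, (x : G) ^ i • δ = ω := by
      let f : Fin 11 ⊕ Fin 11 → Ω := Sum.elim (fun i => (x : G) ^ (i : ℕ) • γ) (fun i => (x : G) ^ (i : ℕ) • δ)
      have hf : Function.Bijective f := by
        rw [Fintype.bijective_iff_injective_and_card]
        refine ⟨(hinj γ).sumElim (hinj δ) fun i j e => ?_, by simp [hΩ]⟩
        have h1 := hO _ ⟨(i : ℕ), rfl⟩
        simp only at h1
        rw [show ((x : G) ^ (i : ℕ)) • γ = (x : G) ^ (j : ℕ) • δ from e, ← mul_smul,
          (hcomm.pow_right _).eq, mul_smul] at h1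
        exact hδ (smul_left_cancel _ h1)
      intro ω
      obtain ⟨i | i, rfl⟩ := hf.2 ω
      · exact Or.inl ⟨i, rfl⟩
      · exact Or.inr ⟨i, rfl⟩
    rcases hcover (c • δ) with hm | ⟨i, hi⟩
    · exact hδ (smul_left_cancel c (hO _ hm))
    have hci : ∀ j : ℕ, c • ((x : G) ^ j • δ) = (x : G) ^ i • ((x : G) ^ j • δ) := by
      intro j
      rw [← mul_smul, (hcomm.pow_right j).eq, mul_smul, ← hi, ← mul_smul, ← pow_add, ← mul_smul, ← pow_add,
        add_comm]
    have hc11 : c ^ 11 = 1 := by
      have hstep : ∀ n : ℕ, c ^ n • δ = (x : G) ^ (i * n) • δ := by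
        intro n
        induction n with
        | zero => simp
        | succ n ih => rw [pow_succ', mul_smul, ih, hci, ← mul_smul, ← pow_add]; congr 2; ring
      refine Subtype.ext (Equiv.ext fun ω => ?_)
      show c ^ 11 • ω = (1 : G) • ω
      rw [one_smul]
      rcases hcover ω with hm | ⟨j, rfl⟩
      · exact (stabilizer G ω).pow_mem (hO _ hm) 11
      · rw [← mul_smul, ((hcomm.pow_pow 11 j)).eq, mul_smul, hstep, mul_comm i, pow_mul, ← hxo,
          pow_orderOf_eq_one, one_pow, one_smul]
    exact hfpf c (orderOf_eq_prime hc11 hc1) γ hcγ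
  have hCcard : Nat.card C ∣ 22 := by
    have hsum : Fintype.card Ω = ∑ q : orbitRel.Quotient C Ω, Fintype.card (orbit C q.out) := by
      rw [← Fintype.card_sigma]
      exact Fintype.card_congr (MulAction.selfEquivSigmaOrbits C Ω)
    rw [hΩ] at hsum
    refine ⟨Fintype.card (orbitRel.Quotient C Ω), ?_⟩
    rw [hsum, Finset.sum_congr rfl (g := fun _ => Nat.card C) (fun q _ => by
      rw [← Nat.card_eq_fintype_card]
      refine (Nat.card_congr (Equiv.ofBijective (fun c : C => (⟨c • q.out, mem_orbit _ _⟩ : orbit C q.out))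
        ⟨fun a b e => ?_, ?_⟩)).symm
      · have e' := congrArg Subtype.val e
        have : ((b⁻¹ * a : C) : G) = 1 := by
          refine hsemi _ (b⁻¹ * a).2 q.out ?_
          show (b⁻¹ * a) • q.out = q.out
          rw [mul_smul, show a • q.out = b • q.out from e', inv_smul_smul]
        exact (inv_mul_eq_one.1 (Subtype.ext this : b⁻¹ * a = 1)).symm
      · rintro ⟨_, c, rfl⟩; exact ⟨c, rfl⟩), Finset.sum_const, Finset.card_univ, smul_eq_mul, mul_comm]
  have hCX : C = X := by
    refine (Subgroup.eq_of_le_of_card_ge hXC ?_).symm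
    rw [hS]
    have h11 : 11 ∣ Nat.card C := hS ▸ Subgroup.card_dvd_of_le hXC
    obtain ⟨k, hk⟩ := h11
    have hk2 : k ∣ 2 := by
      obtain ⟨l, hl⟩ := hCcard
      rw [hk] at hl
      exact ⟨l, by rw [mul_assoc] at hl; omega⟩
    rcases (Nat.dvd_prime Nat.prime_two).1 hk2 with rfl | rfl
    · omega
    exfalso
    have : Fact (Nat.Prime 2) := ⟨Nat.prime_two⟩
    obtain ⟨z, hz⟩ := exists_prime_orderOf_dvd_card' 2 (show 2 ∣ Nat.card C from ⟨11, by rw [hk]⟩)
    rw [← Subgroup.orderOf_coe] at hz
    have hu : ((z : G) : Perm Ω).support = Finset.univ := by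
      ext γ
      simp only [Perm.mem_support, Finset.mem_univ, iff_true]
      intro e
      have := hsemi _ z.2 γ e
      rw [this, orderOf_one] at hz
      omega
    obtain ⟨n, hn⟩ := Perm.cycleType_prime_order (σ := ((z : G) : Perm Ω))
      (by rw [Subgroup.orderOf_coe, hz]; norm_num)
    have h := Perm.sum_cycleType ((z : G) : Perm Ω)
    rw [hu, Finset.card_univ, hΩ, hn, Multiset.sum_replicate, Subgroup.orderOf_coe, hz, smul_eq_mul] at h
    have hsgn : Perm.sign ((z : G) : Perm Ω) = 1 := Perm.mem_alternatingGroup.1 (hA (z : G).2)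
    rw [Perm.sign_of_cycleType, hn, Subgroup.orderOf_coe, hz, Multiset.sum_replicate,
      Multiset.card_replicate, show n + 1 = 11 by omega] at hsgn
    exact absurd hsgn (by decide)
  have hCX' : Subgroup.centralizer (X : Set G) = X := by
    conv_lhs => rw [hX, Subgroup.zpowers_eq_closure, Subgroup.centralizer_closure]
    exact hCX
  let N := normalizer (X : Set G)
  -- Burnside: a normal subgroup containing `X` with no other normalizing element is `X`
  have hburn : ∀ M : Subgroup G, M.Normal → X ≤ M → M ⊓ N ≤ X → False := by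
    intro M hMn hXM hMN
    let S' : Sylow 11 M := S.subtype hXM
    have hS' : (S' : Subgroup M) = X.subgroupOf M := S.coe_subtype hXM
    have hNC : normalizer ((S' : Subgroup M) : Set M) ≤ centralizer ((S' : Subgroup M) : Set M) := by
      intro m hm
      have hmN : (m : G) ∈ N := by
        refine Subgroup.mem_normalizer_iff.2 fun y => ?_
        rw [Subgroup.mem_normalizer_iff] at hm
        constructor
        · intro hy
          have := (hm ⟨y, hXM hy⟩).1 (by rw [hS']; exact hy)
          rw [hS'] at this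
          exact this
        · intro hy
          have hyM : y ∈ M := by
            have : y = (m : G)⁻¹ * ((m : G) * y * (m : G)⁻¹) * (m : G) := by group
            rw [this]; exact M.mul_mem (M.mul_mem (M.inv_mem m.2) (hXM hy)) m.2
          have := (hm ⟨y, hyM⟩).2 (by rw [hS']; exact hy)
          rw [hS'] at this
          exact this
      rw [Subgroup.mem_centralizer_iff]
      intro q hq
      rw [hS'] at hq
      have hmX : (m : G) ∈ X := hMN ⟨m.2, hmN⟩
      letI := IsCyclic.commGroup (α := X)
      have e : (⟨(q : G), hq⟩ : X) * ⟨(m : G), hmX⟩ = ⟨(m : G), hmX⟩ * ⟨(q : G), hq⟩ := mul_comm _ _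
      apply Subtype.ext
      exact congrArg (fun z : X => (z : G)) e
    have hcomp := MonoidHom.ker_transferSylow_isComplement' S' hNC
    let K := (MonoidHom.transferSylow S' hNC).ker
    have hKcop : (Nat.card K).Coprime 11 := by
      have h1 : Nat.card K = (S' : Subgroup M).index := (hcomp.index_eq_card).symm
      rw [h1]
      exact ((Nat.Prime.coprime_iff_not_dvd hp11.out).2 S'.not_dvd_index).symm
    have hKiff : ∀ m : M, m ∈ K ↔ (orderOf m).Coprime 11 := by
      intro m
      refine ⟨fun h => hKcop.coprime_dvd_left (Subgroup.orderOf_dvd_natCard K h), fun h => ?_⟩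
      rw [MonoidHom.mem_ker]
      have hd1 := orderOf_map_dvd (MonoidHom.transferSylow S' hNC) m
      have hd2 : orderOf (MonoidHom.transferSylow S' hNC m) ∣ 11 := by
        have h2 := orderOf_dvd_natCard (MonoidHom.transferSylow S' hNC m)
        rwa [show Nat.card (S' : Subgroup M) = 11 by
          rw [hS', Nat.card_congr (Subgroup.subgroupOfEquivOfLe hXM).toEquiv, hS]] at h2
      exact orderOf_eq_one_iff.1 (Nat.eq_one_of_dvd_coprimes h hd1 hd2)
    have hKn : (K.map M.subtype).Normal := by
      refine ⟨?_⟩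
      rintro _ ⟨m, hm, rfl⟩ g
      replace hm : m ∈ K := hm
      refine ⟨⟨g * (m : G) * g⁻¹, hMn.conj_mem _ m.2 g⟩, ?_, rfl⟩
      show _ ∈ K
      rw [hKiff, ← Subgroup.orderOf_coe]
      rw [hKiff, ← Subgroup.orderOf_coe] at hm
      rwa [show orderOf (g * (m : G) * g⁻¹) = orderOf (m : G) from (MulAut.conj g).orderOf_eq _]
    have hKbot : K = ⊥ := by
      by_contra hne
      have hne' : K.map M.subtype ≠ ⊥ := by
        rw [Ne, Subgroup.map_eq_bot_iff_of_injective _ M.subtype_injective]; exact hne
      have htr : IsPretransitive (K.map M.subtype) Ω := by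
        refine IsQuasiPreprimitive.isPretransitive_of_normal fun h => hne' ?_
        rw [eq_bot_iff]
        intro k hk
        rw [Subgroup.mem_bot]
        refine Subtype.ext (Equiv.ext fun γ => ?_)
        have : γ ∈ MulAction.fixedPoints (K.map M.subtype) Ω := h ▸ Set.mem_univ γ
        exact this ⟨k, hk⟩
      have h := Subgroup.index_dvd_card (stabilizer (K.map M.subtype) α)
      rw [MulAction.index_stabilizer_of_transitive, Nat.card_eq_fintype_card (α := Ω), hΩ,
        Subgroup.card_map_of_injective M.subtype_injective] at h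
      exact absurd (Nat.eq_one_of_dvd_coprimes hKcop ((dvd_mul_left 11 2).trans h) dvd_rfl) (by norm_num)
    have hMX : M = X := by
      refine (Subgroup.eq_of_le_of_card_ge hXM ?_).symm
      have h1 := hcomp.card_mul
      rw [show MonoidHom.ker _ = K from rfl, hKbot, Subgroup.card_bot, one_mul, hS',
        Nat.card_congr (Subgroup.subgroupOfEquivOfLe hXM).toEquiv] at h1
      exact h1.ge
    subst hMX
    -- so `X` is normal and `|G|` is small
    have hNtop : N = ⊤ := Subgroup.normalizer_eq_top _
    rw [hNtop, inf_top_eq] at hMN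
    have hXtr : IsPretransitive X Ω := by
      refine IsQuasiPreprimitive.isPretransitive_of_normal fun h => ?_
      exact hfpf x hxo α ((h ▸ Set.mem_univ α : α ∈ MulAction.fixedPoints X Ω) x)
    have h := Subgroup.index_dvd_card (stabilizer X α)
    rw [MulAction.index_stabilizer_of_transitive, Nat.card_eq_fintype_card (α := Ω), hΩ, hS] at h
    omega
  have hXN : X ≤ N := Subgroup.le_normalizer
  -- `N` has order 22
  have hindex : (X.subgroupOf N).index = 2 := by
    have hdvd10 : (X.subgroupOf N).index ∣ 10 := by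
      have h1 : X.normalizerMonoidHom.ker = X.subgroupOf N := by
        rw [Subgroup.normalizerMonoidHom_ker, hCX']
      rw [← h1, Subgroup.index_ker]
      refine (Subgroup.card_subgroup_dvd_card _).trans ?_
      rw [IsCyclic.card_mulAut, hS, Nat.totient_prime hp11.out]
    have hdG : (X.subgroupOf N).index ∣ Nat.card G :=
      (Subgroup.index_dvd_card _).trans (Subgroup.card_subgroup_dvd_card _)
    rcases (Nat.dvd_prime Nat.prime_two).1 (show (X.subgroupOf N).index ∣ 2 from
      (Nat.Coprime.dvd_mul_left ((Nat.Prime.coprime_iff_not_dvd (by norm_num)).2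
        (fun h => h5 (h.trans hdG))).symm).1 (by simpa using hdvd10 : (X.subgroupOf N).index ∣ 5 * 2)) with h | h
    · exfalso
      rw [Subgroup.index_eq_one, Subgroup.subgroupOf_eq_top] at h
      exact hburn ⊤ inferInstance le_top (by rw [top_inf_eq]; exact h)
    · exact h
  obtain ⟨t, htN, htX, ht2⟩ : ∃ t : G, t ∈ N ∧ t ∉ X ∧ t * t = 1 := by
    have hN : Nat.card N = 22 := by
      rw [← Subgroup.card_mul_index (X.subgroupOf N), hindex,
        Nat.card_congr (Subgroup.subgroupOfEquivOfLe hXN).toEquiv, hS]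
    have : Fact (Nat.Prime 2) := ⟨Nat.prime_two⟩
    obtain ⟨z, hz⟩ := exists_prime_orderOf_dvd_card' 2 (show 2 ∣ Nat.card N from ⟨11, hN⟩)
    refine ⟨z, z.2, fun h => ?_, ?_⟩
    · have := orderOf_dvd_natCard (⟨(z : G), h⟩ : X)
      rw [Subgroup.orderOf_mk, Subgroup.orderOf_coe, hz, hS] at this
      omega
    · rw [← pow_two, ← Subgroup.coe_pow, ← hz, pow_orderOf_eq_one]; rfl
  have htinv : t⁻¹ = t := inv_eq_of_mul_eq_one_left ht2
  have hy : t * (x : G) * t⁻¹ ∈ X := (Subgroup.mem_normalizer_iff.1 htN _).1 x.2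
  have hinv : t * (x : G) * t = (x : G)⁻¹ := by
    rw [htinv] at hy
    by_contra hne
    apply htX
    rw [← hCX, Subgroup.mem_centralizer_singleton_iff]
    have hcm : Commute (x : G) (t * (x : G) * t) :=
      (Subgroup.mem_centralizer_singleton_iff.1 (hXC hy)).symm
    set w := (x : G) * (t * (x : G) * t) with hw
    have hwt : Commute t w := by
      have e1 : t * w * t = (t * (x : G) * t) * (x : G) := by
        rw [hw]
        calc t * ((x : G) * (t * (x : G) * t)) * t = (t * (x : G) * t) * (x : G) * (t * t) := by group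
          _ = _ := by rw [ht2, mul_one]
      rw [← hcm.eq, ← hw] at e1
      calc t * w = t * w * (t * t) := by rw [ht2, mul_one]
        _ = t * w * t * t := by group
        _ = w * t := by rw [e1]
    have hw1 : w ≠ 1 := fun h => hne (by
      rw [hw] at h; exact eq_inv_of_mul_eq_one_right h)
    have hwX : w ∈ X := X.mul_mem x.2 hy
    have : Subgroup.zpowers w = X := by
      refine Subgroup.eq_of_le_of_card_ge (Subgroup.zpowers_le.2 hwX) ?_
      rw [hS, Nat.card_zpowers]
      have hd := orderOf_dvd_natCard (⟨w, hwX⟩ : X)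
      rw [← Subgroup.orderOf_coe, hS] at hd
      rcases (Nat.dvd_prime hp11.out).1 hd with h | h
      · exact absurd (orderOf_eq_one_iff.1 h) hw1
      · exact h.ge
    obtain ⟨n, hn⟩ := Subgroup.mem_zpowers_iff.1 (this.ge x.2)
    rw [← hn]
    exact (hwt.zpow_right n).eq
  -- the data for the character computation
  let e₀ : ZMod 11 → X := fun a => ⟨(x : G) ^ a.val, X.pow_mem x.2 _⟩
  have he₀ : Function.Bijective e₀ := by
    refine (Fintype.bijective_iff_injective_and_card _).2 ⟨fun a b h => ?_, ?_⟩
    · have h' : (x : G) ^ a.val = (x : G) ^ b.val := congrArg Subtype.val h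
      rw [pow_eq_pow_iff_modEq, hxo, Nat.ModEq, Nat.mod_eq_of_lt (ZMod.val_lt a),
        Nat.mod_eq_of_lt (ZMod.val_lt b)] at h'
      exact ZMod.val_injective _ h'
    · rw [ZMod.card, ← Nat.card_eq_fintype_card, hS]
  have hadd : ∀ a b : ZMod 11, (x : G) ^ (a + b).val = (x : G) ^ a.val * (x : G) ^ b.val := by
    intro a b
    rw [← pow_add, ZMod.val_add]
    conv_rhs => rw [← pow_mod_orderOf, hxo]
  have hneg : ∀ a : ZMod 11, (x : G) ^ (-a).val = ((x : G) ^ a.val)⁻¹ := by
    intro a
    refine eq_inv_of_mul_eq_one_left ?_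
    rw [← hadd, neg_add_cancel, ZMod.val_zero, pow_zero]
  let D : Data G :=
    { X := X
      e := Equiv.ofBijective e₀ he₀
      e_add := fun a b => Subtype.ext (hadd a b)
      t := t
      t_sq := ht2
      t_not := htX
      t_inv := fun a => by
        show t * (x : G) ^ a.val * t = (x : G) ^ (-a).val
        rw [hneg, ← inv_pow, ← hinv]
        nth_rewrite 2 [← htinv]
        conv_rhs => rw [show t * (x : G) * t = t * (x : G) * t⁻¹ by rw [htinv], conj_pow]
      norm := fun g a ha hm => by
        change g⁻¹ * (x : G) ^ a.val * g ∈ X at hm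
        have hgN : g ∈ N := by
          have hmemX : ∀ y ∈ X, g⁻¹ * y * g ∈ X := by
            intro y hy
            have hgen : Subgroup.zpowers ((x : G) ^ a.val) = X := by
              refine Subgroup.eq_of_le_of_card_ge (Subgroup.zpowers_le.2 (X.pow_mem x.2 _)) ?_
              rw [hS, Nat.card_zpowers, orderOf_pow' _ (fun h => ha ((ZMod.val_eq_zero a).1 h)), hxo,
                Nat.Coprime.gcd_eq_one ((Nat.Prime.coprime_iff_not_dvd hp11.out).2 fun h => by
                  have := Nat.le_of_dvd (Nat.pos_of_ne_zero fun h => ha ((ZMod.val_eq_zero a).1 h)) h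
                  have := ZMod.val_lt a
                  omega), Nat.div_one]
            obtain ⟨n, rfl⟩ := Subgroup.mem_zpowers_iff.1 (hgen.ge hy)
            have := X.zpow_mem hm n
            have e : (g⁻¹ * (x : G) ^ a.val * g) ^ n = g⁻¹ * ((x : G) ^ a.val) ^ n * g := by
              simpa using conj_zpow (a := g⁻¹) (b := (x : G) ^ a.val) (i := n)
            rwa [e] at this
          have : g⁻¹ ∈ N := Subgroup.mem_normalizer_fintype
            fun y hy => by simpa using hmemX y hy
          simpa using N.inv_mem this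
        by_cases hgX : g ∈ X
        · exact Or.inl hgX
        · right
          have h := (Subgroup.mul_mem_iff_of_index_two hindex (a := ⟨t, htN⟩) (b := ⟨g, hgN⟩)).2
            (by simp [Subgroup.mem_subgroupOf, htX, hgX])
          exact h }
  apply h5
  refine five_dvd_card D (fun g => (Nat.card (MulAction.fixedBy Ω g) : ℂ))
    (Cfsg.Agent.Char.isCharacter_fixedPoints Ω) ?_ ?_ ?_ ?_
  · rw [Cfsg.Agent.Char.classInner_fixedPoints_one]
    have : Subsingleton (orbitRel.Quotient G Ω) :=
      (pretransitive_iff_subsingleton_quotient G Ω).1 inferInstance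
    have : Nonempty (orbitRel.Quotient G Ω) := ⟨Quotient.mk _ α⟩
    rw [Nat.card_of_subsingleton this.some, Nat.cast_one]
  · show ((Nat.card (MulAction.fixedBy Ω (1 : G))) : ℂ) = 22
    rw [show MulAction.fixedBy Ω (1 : G) = Set.univ by ext; simp, Nat.card_univ,
      Nat.card_eq_fintype_card, hΩ]
    norm_num
  · intro a ha
    have : MulAction.fixedBy Ω ((D.e a : G)) = ∅ := by
      ext γ
      simp only [MulAction.mem_fixedBy, Set.mem_empty_iff_false, iff_false]
      refine hfpf _ ?_ γ
      show orderOf ((x : G) ^ a.val) = 11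
      rw [orderOf_pow' _ (fun h => ha ((ZMod.val_eq_zero a).1 h)), hxo,
        Nat.Coprime.gcd_eq_one ((Nat.Prime.coprime_iff_not_dvd hp11.out).2 fun h => by
          have := Nat.le_of_dvd (Nat.pos_of_ne_zero fun h => ha ((ZMod.val_eq_zero a).1 h)) h
          have := ZMod.val_lt a
          omega), Nat.div_one]
    simp [this]
  · intro χ hχ h1
    obtain ⟨l, hl⟩ := Cfsg.Agent.Char.exists_hom_of_degree_one
      (Cfsg.Agent.Char.IsIrrCharacter.isCharacter hχ) h1
    by_contra hne
    let L : G →* ℂˣ := l.toHomUnits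
    let M := L.ker
    have hMn : M.Normal := inferInstance
    have hMtop : M ≠ ⊤ := fun h => hne (funext fun g => by
      have hg : L g = 1 := MonoidHom.mem_ker.1 (show g ∈ L.ker by rw [show L.ker = ⊤ from h]; trivial)
      rw [← hl]
      exact congrArg (fun u : ℂˣ => (u : ℂ)) hg)
    have h11M : 11 ∣ Nat.card M := by
      by_contra h
      have hMbot : M = ⊥ := by
        by_contra hne'
        have htr : IsPretransitive M Ω := by
          refine IsQuasiPreprimitive.isPretransitive_of_normal fun h' => hne' ?_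
          rw [eq_bot_iff]
          intro k hk
          rw [Subgroup.mem_bot]
          refine Subtype.ext (Equiv.ext fun γ => ?_)
          exact (h' ▸ Set.mem_univ γ : γ ∈ MulAction.fixedPoints M Ω) ⟨k, hk⟩
        have h' := Subgroup.index_dvd_card (stabilizer M α)
        rw [MulAction.index_stabilizer_of_transitive, Nat.card_eq_fintype_card (α := Ω), hΩ] at h'
        exact h ((dvd_mul_left 11 2).trans h')
      have hinj : Function.Injective L := (MonoidHom.ker_eq_bot_iff L).1 hMbot
      apply htX
      rw [← hCX, Subgroup.mem_centralizer_singleton_iff]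
      exact hinj (by rw [map_mul, map_mul, mul_comm])
    have hXM : X ≤ M := by
      obtain ⟨Q⟩ := (inferInstance : Nonempty (Sylow 11 M))
      obtain ⟨Q', hQ'⟩ := (Q.2.map M.subtype).exists_le_sylow
      have hQcard : Nat.card (Q : Subgroup M) = 11 := by
        apply Nat.dvd_antisymm
        · refine dvd_trans ?_ (S.card_eq_multiplicity.symm.trans hS).dvd
          rw [Q.card_eq_multiplicity]
          exact pow_dvd_pow 11 ((Nat.factorization_le_iff_dvd Nat.card_pos.ne' Nat.card_pos.ne').2
            (Subgroup.card_subgroup_dvd_card M) 11)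
        · rw [Q.card_eq_multiplicity]
          exact dvd_pow_self 11 (by
            have := (Nat.Prime.dvd_iff_one_le_factorization hp11.out Nat.card_pos.ne').1 h11M
            omega)
      have hQ'eq : (Q : Subgroup M).map M.subtype = (Q' : Subgroup G) := by
        refine Subgroup.eq_of_le_of_card_ge hQ' ?_
        rw [Subgroup.card_map_of_injective M.subtype_injective, hQcard, Q'.card_eq_multiplicity,
          ← S.card_eq_multiplicity, hS]
      obtain ⟨g, hg⟩ := MulAction.exists_smul_eq G Q' S
      intro y hy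
      have hy' : y ∈ ((g • Q' : Sylow 11 G) : Subgroup G) := by rw [hg]; exact hy
      rw [Sylow.coe_subgroup_smul, Subgroup.mem_pointwise_smul_iff_inv_smul_mem, ← hQ'eq] at hy'
      obtain ⟨m, -, hm⟩ := hy'
      have hym : y = g * (m : G) * g⁻¹ := by
        have : (m : G) = g⁻¹ * y * g := by simpa using hm
        rw [this]; group
      rw [hym]; exact hMn.conj_mem _ m.2 g
    refine hburn M hMn hXM ?_
    rintro m ⟨hmM, hmN⟩
    by_contra hmX
    have htm : t * m ∈ X := (Subgroup.mul_mem_iff_of_index_two hindex (a := ⟨t, htN⟩) (b := ⟨m, hmN⟩)).2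
      (by simp [Subgroup.mem_subgroupOf, htX, hmX])
    have htM : t ∈ M := by
      have : t = (t * m) * m⁻¹ := by group
      rw [this]; exact M.mul_mem (hXM htm) (M.inv_mem hmM)
    have hNM : N ≤ M := by
      intro n hn
      by_cases hnX : n ∈ X
      · exact hXM hnX
      have htn : t * n ∈ X := (Subgroup.mul_mem_iff_of_index_two hindex (a := ⟨t, htN⟩) (b := ⟨n, hn⟩)).2
        (by simp [Subgroup.mem_subgroupOf, htX, hnX])
      have : n = t⁻¹ * (t * n) := by group
      rw [this]; exact M.mul_mem (M.inv_mem htM) (hXM htn)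
    have htop : N ⊔ M = ⊤ := Sylow.normalizer_sup_eq_top' S hXM
    exact hMtop (by rwa [sup_eq_right.2 hNM] at htop)

end Main

end Cfsg.Agent.HallSylow
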